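/-
Maximal point stabilizers from suborbit lengths, and simplicity of transitive groups with
simple point stabilizers or with an abelian normal subgroup in a point stabilizer.
-/
import Mathlib.GroupTheory.GroupAction.Quotient
import Mathlib.GroupTheory.Sylow
import Mathlib.GroupTheory.Abelianization.Defs
import Mathlib.GroupTheory.Subgroup.Simple
import Mathlib.Data.Fintype.Powerset

namespace CfsgLib.Spor.TC

open MulAction

variable {G : Type*} [Group G]

/-- A transitive action with known point stabilizer and suborbits. -/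
structure Suborbits (G : Type*) [Group G] (H : Subgroup G) (α : Type*) [MulAction G α] (r : ℕ) where
  a : α
  stab : stabilizer G a = H
  trans : ∀ x : α, ∃ g : G, g • a = x
  rep : Fin r → α
  size : Fin r → ℕ
  orbit_size : ∀ i, (orbit H (rep i)).ncard = size i
  cover : ∀ x : α, ∃ i, x ∈ orbit H (rep i)
  sum_size : ∑ i, size i = Nat.card α

variable {H : Subgroup G} {α : Type*} [MulAction G α] {r : ℕ}

theorem Suborbits.mem_iff (S : Suborbits G H α r) (g : G) : g • S.a = S.a ↔ g ∈ H := by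
  rw [← mem_stabilizer_iff, S.stab]

theorem Suborbits.index_eq (S : Suborbits G H α r) : H.index = Nat.card α := by
  have : orbit G S.a = Set.univ := Set.eq_univ_of_forall fun x => S.trans x
  rw [← S.stab, index_stabilizer, this, Set.ncard_univ]

theorem Suborbits.eq_of_mem [Finite α] (S : Suborbits G H α r) {x : α} {i j : Fin r}
    (hi : x ∈ orbit H (S.rep i)) (hj : x ∈ orbit H (S.rep j)) : i = j := by
  haveI := Fintype.ofFinite α
  let f : (Σ i : Fin r, orbit H (S.rep i)) → α := fun p => p.2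
  have hs : Function.Surjective f := fun x => by
    obtain ⟨i, hi⟩ := S.cover x
    exact ⟨⟨i, x, hi⟩, rfl⟩
  have hc : Nat.card (Σ i : Fin r, orbit H (S.rep i)) = Nat.card α := by
    rw [Nat.card_sigma, ← S.sum_size]
    exact Finset.sum_congr rfl fun i _ => by rw [← S.orbit_size i, Nat.card_coe_set_eq]
  have hinj : Function.Injective f := (hs.bijective_of_nat_card_le hc.le).1
  exact congrArg Sigma.fst (@hinj ⟨i, x, hi⟩ ⟨j, x, hj⟩ rfl)

/-- Arithmetic excluding blocks: no union of suborbits containing the first has size dividing the degree. -/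
def NoBlockSum (size : Fin r → ℕ) (n : ℕ) : Prop :=
  ∀ T : Finset (Fin r), (∀ i : Fin r, (i : ℕ) = 0 → i ∈ T) → (∑ i ∈ T, size i) ∣ n →
    (∀ i ∈ T, (i : ℕ) = 0) ∨ T = Finset.univ

instance (size : Fin r → ℕ) (n : ℕ) : Decidable (NoBlockSum size n) := by
  unfold NoBlockSum; infer_instance

/-- The stabilizer is maximal. -/
theorem Suborbits.maximal [Finite α] (S : Suborbits G H α r) {i₀ : Fin r} (hi0 : (i₀ : ℕ) = 0)
    (hrep : S.rep i₀ = S.a) (hsum : NoBlockSum S.size (Nat.card α)) {K : Subgroup G} (hK : H ≤ K) :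
    K = H ∨ K = ⊤ := by
  classical
  haveI := Fintype.ofFinite α
  let T : Finset (Fin r) := Finset.univ.filter fun i => S.rep i ∈ orbit K S.a
  have hinv : ∀ i, ∀ x ∈ orbit H (S.rep i), x ∈ orbit K S.a ↔ i ∈ T := by
    rintro i _ ⟨h, rfl⟩
    simp only [T, Finset.mem_filter, Finset.mem_univ, true_and]
    show ((⟨h, hK h.2⟩ : K) • S.rep i) ∈ orbit K S.a ↔ _
    refine ⟨fun hm => ?_, fun hm => mem_orbit_of_mem_orbit _ hm⟩
    obtain ⟨k, hk⟩ := hm
    refine ⟨(⟨h, hK h.2⟩ : K)⁻¹ * k, ?_⟩
    show ((⟨h, hK h.2⟩ : K)⁻¹ * k) • S.a = _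
    rw [mul_smul, show k • S.a = (⟨h, hK h.2⟩ : K) • S.rep i from hk, inv_smul_smul]
  have hcard : (orbit K S.a).ncard = ∑ i ∈ T, S.size i := by
    have e : (Σ i : T, orbit H (S.rep i)) ≃ orbit K S.a :=
      Equiv.ofBijective (fun p => ⟨p.2, (hinv p.1 _ p.2.2).2 p.1.2⟩) ⟨fun p q hpq => by
        obtain ⟨⟨i, hi⟩, x, hx⟩ := p
        obtain ⟨⟨j, hj⟩, y, hy⟩ := q
        obtain rfl : x = y := congrArg Subtype.val hpq
        obtain rfl := S.eq_of_mem hx hy
        rfl, fun x => by
        obtain ⟨i, hi⟩ := S.cover x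
        exact ⟨⟨⟨i, (hinv i _ hi).1 x.2⟩, x, hi⟩, rfl⟩⟩
    rw [← Nat.card_coe_set_eq, ← Nat.card_congr e, Nat.card_sigma, ← Finset.sum_coe_sort T]
    exact Finset.sum_congr rfl fun i _ => by rw [← S.orbit_size, Nat.card_coe_set_eq]
  have hdvd : (orbit K S.a).ncard ∣ Nat.card α := by
    have h1 := Subgroup.relIndex_dvd_index_of_le (show stabilizer G S.a ≤ K from S.stab.le.trans hK)
    rw [congrArg Subgroup.index S.stab, S.index_eq] at h1
    rw [← index_stabilizer]
    convert h1 using 2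
    exact congrArg Subgroup.index (Subgroup.ext fun k => Iff.rfl)
  have h0 : ∀ i : Fin r, (i : ℕ) = 0 → i ∈ T := fun i hi => by
    rw [show i = i₀ from Fin.ext (hi.trans hi0.symm)]
    simp only [T, Finset.mem_filter, Finset.mem_univ, true_and, hrep]
    exact mem_orbit_self _
  rcases hsum T h0 (hcard ▸ hdvd) with h | h
  · left
    refine le_antisymm (fun k hk => (S.mem_iff k).1 ?_) hK
    have hmem : k • S.a ∈ orbit K S.a := ⟨⟨k, hk⟩, rfl⟩
    obtain ⟨i, hi⟩ := S.cover (k • S.a)
    have := h i ((hinv i _ hi).1 hmem)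
    rw [show i = i₀ from Fin.ext (this.trans hi0.symm), hrep] at hi
    obtain ⟨g, hg⟩ := hi
    rw [← hg]
    exact (S.mem_iff g).2 g.2
  · right
    refine (Subgroup.eq_top_iff' K).2 fun g => ?_
    obtain ⟨i, hi⟩ := S.cover (g • S.a)
    obtain ⟨k, hk⟩ := (hinv i _ hi).2 (h ▸ Finset.mem_univ i)
    have h1 : (k : G)⁻¹ * g ∈ H := (S.mem_iff _).1 (by
      rw [mul_smul, inv_smul_eq_iff]; exact hk.symm)
    simpa using K.mul_mem k.2 (hK h1)

/-- What excludes a regular normal subgroup. -/
def NoRegular (r n : ℕ) : Prop :=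
  (∃ ps : List ℕ, ps.Nodup ∧ (∀ p ∈ ps, p.Prime ∧ p ∣ n) ∧ r ≤ ps.length) ∨
    ∃ p v m : ℕ, p.Prime ∧ n = p ^ v * m ∧ ¬ p ∣ m ∧ 0 < v ∧ 1 < m ∧ ∀ d, d ≤ m → d ∣ m → d % p = 1 → d = 1

/-- A transitive group with maximal, simple point stabilizer and without regular normal subgroup is simple. -/
theorem Suborbits.isSimpleGroup [Finite G] [Finite α] (S : Suborbits G H α r) {i₀ : Fin r}
    (hi0 : (i₀ : ℕ) = 0) (hrep : S.rep i₀ = S.a) (hsum : NoBlockSum S.size (Nat.card α))
    [IsSimpleGroup H] (hH : ∃ h ∈ H, ∃ x : α, h • x ≠ x) (hreg : NoRegular r (Nat.card α)) :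
    IsSimpleGroup G := by
  obtain ⟨h, hh, x, hx⟩ := hH
  haveI : Nontrivial G := ⟨h, 1, by rintro rfl; exact hx (one_smul _ _)⟩
  refine { eq_bot_or_eq_top_of_normal := fun N hN => ?_ }
  haveI := hN
  rcases IsSimpleGroup.eq_bot_or_eq_top_of_normal (N.subgroupOf H) (hN.comap _) with hb | ht
  swap
  · have hle : H ≤ N := Subgroup.subgroupOf_eq_top.1 ht
    rcases S.maximal hi0 hrep hsum hle with he | he
    · -- then `H` fixes every point
      exfalso
      obtain ⟨g, rfl⟩ := S.trans x
      apply hx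
      have h1 : g⁻¹ * h * g ∈ H := by
        rw [← he] at hh ⊢
        exact hN.conj_mem' h hh g
      have := (S.mem_iff _).2 h1
      rwa [mul_smul, mul_smul, inv_smul_eq_iff] at this
    · exact Or.inr he
  refine or_iff_not_imp_right.2 fun _ => ?_
  by_contra hne
  have hfix : ∀ n ∈ N, n • S.a = S.a → n = 1 := fun n hn e => by
    have : (⟨n, (S.mem_iff n).1 e⟩ : H) ∈ N.subgroupOf H := hn
    rw [hb, Subgroup.mem_bot] at this
    exact congrArg Subtype.val this
  have hsup : H ⊔ N = ⊤ := (S.maximal hi0 hrep hsum le_sup_left).resolve_left fun e => hne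
    ((Subgroup.eq_bot_iff_forall _).2 fun n hn =>
      hfix n hn ((S.mem_iff n).2 (e ▸ Subgroup.mem_sup_right hn)))
  have hinj : Function.Injective fun n : N => (n : G) • S.a := fun n m e => by
    have := hfix ((m : G)⁻¹ * n) (N.mul_mem (N.inv_mem m.2) n.2) (by
      rw [mul_smul, show (n : G) • S.a = (m : G) • S.a from e, inv_smul_smul])
    exact Subtype.ext (inv_mul_eq_one.1 this).symm
  have hsurj : Function.Surjective fun n : N => (n : G) • S.a := fun y => by
    obtain ⟨g, rfl⟩ := S.trans y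
    have hg : g ∈ N ⊔ H := by rw [sup_comm, hsup]; exact Subgroup.mem_top g
    obtain ⟨n, hn, k, hk, rfl⟩ := Subgroup.mem_sup_of_normal_left.1 hg
    exact ⟨⟨n, hn⟩, by show n • S.a = _; rw [mul_smul, (S.mem_iff k).2 hk]⟩
  have hcard : Nat.card N = Nat.card α := Nat.card_congr (Equiv.ofBijective _ ⟨hinj, hsurj⟩)
  rcases hreg with ⟨ps, hnd, hps, hlen⟩ | ⟨p, v, m, hp, hn, hpm, hv, hm, hd⟩
  · -- elements of different prime orders lie in different suborbits
    have hel : ∀ i : Fin ps.length, ∃ (c : Fin r) (n : N), orderOf n = ps[i] ∧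
        (n : G) • S.a ∈ orbit H (S.rep c) := fun i => by
      obtain ⟨hpp, hpn⟩ := hps _ (ps.getElem_mem i.2)
      haveI := Fact.mk hpp
      obtain ⟨n, hn⟩ := exists_prime_orderOf_dvd_card' (G := N) ps[i] (hcard ▸ hpn)
      obtain ⟨c, hc⟩ := S.cover ((n : G) • S.a)
      exact ⟨c, n, hn, hc⟩
    choose c el hord hmem using hel
    have hc0 : ∀ i, (c i : ℕ) ≠ 0 := fun i h0 => by
      have hm := hmem i
      rw [show c i = i₀ from Fin.ext (h0.trans hi0.symm), hrep] at hm
      obtain ⟨g, hg⟩ := hm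
      have h1 : (el i : G) = 1 := hfix _ (el i).2 (hg.symm.trans ((S.mem_iff g).2 g.2))
      have h2 := hord i
      rw [show el i = 1 from Subtype.ext h1, orderOf_one] at h2
      exact (hps _ (ps.getElem_mem i.2)).1.one_lt.ne h2
    have hcinj : Function.Injective c := fun i j e => by
      obtain ⟨⟨g, hg⟩, hg'⟩ := orbit_eq_iff.1 ((orbit_eq_iff.2 (hmem j)).trans
        ((congrArg (fun k => orbit H (S.rep k)) e).symm.trans (orbit_eq_iff.2 (hmem i)).symm))
      have hconj : (el j : G) = g * el i * g⁻¹ := congrArg Subtype.val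
        (@hinj (el j) ⟨_, hN.conj_mem _ (el i).2 g⟩ (by
          show (el j : G) • S.a = (g * el i * g⁻¹) • S.a
          rw [mul_smul, mul_smul, (S.mem_iff g⁻¹).2 (H.inv_mem hg)]
          exact hg'.symm))
      have h2 : orderOf (el j : G) = orderOf (el i : G) := by
        rw [hconj]
        exact ((SemiconjBy.conj_mk g (el i : G)).orderOf_eq).symm
      rw [Subgroup.orderOf_coe, Subgroup.orderOf_coe, hord, hord] at h2
      exact Fin.ext ((hnd.getElem_inj_iff).1 h2).symm
    have := Fintype.card_le_of_injective (fun i : Fin ps.length => (⟨c i, hc0 i⟩ : {k : Fin r // (k : ℕ) ≠ 0}))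
      fun i j e => hcinj (congrArg Subtype.val e)
    have h3 : Fintype.card {k : Fin r // (k : ℕ) ≠ 0} < r := by
      simpa using Fintype.card_subtype_lt (p := fun k : Fin r => (k : ℕ) ≠ 0) (x := i₀) (by simp [hi0])
    simp only [Fintype.card_fin] at this
    omega
  · haveI := Fact.mk hp
    let P : Sylow p N := default
    have hfac : Nat.card N = p ^ v * m := hcard.trans hn
    have hPcard : Nat.card P = p ^ v := by
      rw [P.card_eq_multiplicity, hfac, Nat.factorization_mul (pow_pos hp.pos v).ne' (by omega),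
        Finsupp.add_apply, hp.factorization_pow, Finsupp.single_eq_same,
        Nat.factorization_eq_zero_of_not_dvd hpm, add_zero]
    have hidx : (P : Subgroup N).index = m := Nat.eq_of_mul_eq_mul_left (pow_pos hp.pos v)
      (by rw [← hPcard, Subgroup.card_mul_index, hfac, hPcard])
    have hone : Nat.card (Sylow p N) = 1 := by
      refine hd _ (Nat.le_of_dvd (by omega) (hidx ▸ P.card_dvd_index)) (hidx ▸ P.card_dvd_index) ?_
      have := card_sylow_modEq_one p N
      rwa [Nat.ModEq, Nat.mod_eq_of_lt hp.one_lt] at this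
    haveI : Subsingleton (Sylow p N) := (Nat.card_eq_one_iff_unique.1 hone).1
    haveI : (P : Subgroup N).Characteristic := P.characteristic_of_normal P.normal_of_subsingleton
    let M : Subgroup G := (P : Subgroup N).map N.subtype
    haveI hM : M.Normal := inferInstance
    have hMN : M ≤ N := Subgroup.map_subtype_le _
    have hMcard : Nat.card M = p ^ v := by
      rw [Subgroup.card_map_of_injective N.subtype_injective]; exact hPcard
    rcases S.maximal hi0 hrep hsum (le_sup_left : H ≤ H ⊔ M) with e | e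
    · have : M = ⊥ := (Subgroup.eq_bot_iff_forall _).2 fun g hg =>
        hfix g (hMN hg) ((S.mem_iff g).2 (e ▸ Subgroup.mem_sup_right hg))
      rw [this, Subgroup.card_bot] at hMcard
      exact (Nat.one_lt_pow hv.ne' hp.one_lt).ne hMcard
    · have hs : Function.Surjective fun g : M => (g : G) • S.a := fun y => by
        obtain ⟨g, rfl⟩ := S.trans y
        have hg : g ∈ M ⊔ H := by rw [sup_comm, e]; exact Subgroup.mem_top g
        obtain ⟨n, hn, k, hk, rfl⟩ := Subgroup.mem_sup_of_normal_left.1 hg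
        exact ⟨⟨n, hn⟩, by show n • S.a = _; rw [mul_smul, (S.mem_iff k).2 hk]⟩
      have hle := Nat.card_le_card_of_surjective _ hs
      rw [hMcard, hn] at hle
      have := Nat.pow_pos (n := v) hp.pos
      nlinarith

/-- Iwasawa's criterion for a maximal point stabilizer. -/
theorem Suborbits.isSimpleGroup_of_abelian [Finite α] [Nontrivial G] (S : Suborbits G H α r)
    {i₀ : Fin r} (hi0 : (i₀ : ℕ) = 0) (hrep : S.rep i₀ = S.a) (hsum : NoBlockSum S.size (Nat.card α))
    (hfaith : ∀ g : G, (∀ x : α, g • x = x) → g = 1) (hperf : commutator G = ⊤) (A : Subgroup G)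
    (hA : ∀ a ∈ A, ∀ b ∈ A, a * b = b * a) (hAH : ∀ h ∈ H, ∀ a ∈ A, h * a * h⁻¹ ∈ A)
    (hgen : ∀ K : Subgroup G, K.Normal → A ≤ K → K = ⊤) : IsSimpleGroup G := by
  refine { eq_bot_or_eq_top_of_normal := fun N hN => ?_ }
  haveI := hN
  rcases S.maximal hi0 hrep hsum (le_sup_left : H ≤ H ⊔ N) with e | e
  · refine Or.inl ((Subgroup.eq_bot_iff_forall _).2 fun n hn => hfaith n fun x => ?_)
    obtain ⟨g, rfl⟩ := S.trans x
    have h1 : g⁻¹ * n * g ∈ H := e ▸ Subgroup.mem_sup_right (hN.conj_mem' n hn g)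
    have := (S.mem_iff _).2 h1
    rwa [mul_smul, mul_smul, inv_smul_eq_iff] at this
  refine Or.inr (eq_top_iff.2 (hperf ▸ ?_))
  haveI hcomm : IsMulCommutative A := ⟨⟨fun a b => Subtype.ext (hA a a.2 b b.2)⟩⟩
  refine hN.commutator_le_of_self_sup_commutative_eq_top ?_ hcomm
  refine hgen _ ?_ le_sup_right
  have hle : H ⊔ N ≤ Subgroup.normalizer ((N ⊔ A : Subgroup G) : Set G) := sup_le
    (fun h hh => by
      rw [Subgroup.mem_normalizer_iff]
      have key : ∀ k ∈ H, ∀ x ∈ N ⊔ A, k * x * k⁻¹ ∈ N ⊔ A := fun k hk x hx => by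
        obtain ⟨n, hn, a, ha, rfl⟩ := Subgroup.mem_sup_of_normal_left.1 hx
        rw [show k * (n * a) * k⁻¹ = (k * n * k⁻¹) * (k * a * k⁻¹) by group]
        exact mul_mem (Subgroup.mem_sup_left (hN.conj_mem n hn k)) (Subgroup.mem_sup_right (hAH k hk a ha))
      refine fun x => ⟨key h hh x, fun hx => ?_⟩
      simpa [mul_assoc] using key _ (H.inv_mem hh) _ hx)
    (le_sup_left.trans Subgroup.le_normalizer)
  rw [e] at hle
  exact Subgroup.normalizer_eq_top_iff.1 (top_le_iff.1 hle)

end CfsgLib.Spor.TC
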