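/-
Suborbits read on cosets, and carried along isomorphisms.
-/
import Cfsg.Agent.Lib.Spor.TC.Criteria
import Mathlib.Algebra.Group.Subgroup.Map

namespace CfsgLib.Spor.TC

open MulAction

variable {G : Type*} [Group G] {H : Subgroup G} {α : Type*} [MulAction G α] {r : ℕ}

/-- Every suborbit length is an orbit length of the subgroup on its cosets. -/
theorem Suborbits.exists_coset_orbit (S : Suborbits G H α r) (i : Fin r) :
    ∃ q : G ⧸ H, (orbit H q).ncard = S.size i := by
  let φ : G ⧸ H → α := fun q => Quotient.liftOn' q (fun g => g • S.a) fun x y hxy => by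
    rw [QuotientGroup.leftRel_apply, ← S.mem_iff, mul_smul, inv_smul_eq_iff] at hxy
    exact hxy.symm
  have hφ : Function.Injective φ := by
    intro p q
    induction p using QuotientGroup.induction_on with
    | H x => induction q using QuotientGroup.induction_on with
      | H y =>
        intro h
        rw [QuotientGroup.eq, ← S.mem_iff, mul_smul, inv_smul_eq_iff]
        exact (h : x • S.a = y • S.a).symm
  obtain ⟨g, hg⟩ := S.trans (S.rep i)
  refine ⟨(g : G ⧸ H), ?_⟩
  rw [← S.orbit_size i, ← Set.ncard_image_of_injective _ hφ]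
  congr 1
  ext x
  constructor
  · rintro ⟨_, ⟨h, rfl⟩, rfl⟩
    exact ⟨h, by show (h : G) • S.rep i = ((h : G) * g) • S.a; rw [mul_smul, hg]⟩
  · rintro ⟨h, rfl⟩
    exact ⟨_, ⟨h, rfl⟩, by show ((h : G) * g) • S.a = (h : G) • S.rep i; rw [mul_smul, hg]⟩

/-- Suborbits along an isomorphism. -/
theorem Suborbits.exists_map (S : Suborbits G H α r) {G' : Type*} [Group G'] (e : G ≃* G') (H' : Subgroup G')
    (hH' : H.map e.toMonoidHom = H') :
    H'.index = Nat.card α ∧ ∀ i : Fin r, ∃ q : G' ⧸ H', (orbit H' q).ncard = S.size i := by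
  subst hH'
  letI : MulAction G' α := MulAction.compHom α e.symm.toMonoidHom
  have hsmul : ∀ (y : G') (x : α), y • x = e.symm y • x := fun _ _ => rfl
  have hmem : ∀ y : G', y ∈ H.map e.toMonoidHom ↔ e.symm y ∈ H := fun y =>
    Subgroup.mem_map_equiv
  let S' : Suborbits G' (H.map e.toMonoidHom) α r :=
    { a := S.a
      stab := by
        ext y
        rw [mem_stabilizer_iff, hsmul, hmem]
        exact S.mem_iff _
      trans := fun x => by
        obtain ⟨g, hg⟩ := S.trans x
        exact ⟨e g, by rw [hsmul, e.symm_apply_apply, hg]⟩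
      rep := S.rep
      size := S.size
      orbit_size := fun i => by
        rw [← S.orbit_size i]
        congr 1
        ext x
        constructor
        · rintro ⟨⟨y, hy⟩, rfl⟩
          exact ⟨⟨_, (hmem y).1 hy⟩, rfl⟩
        · rintro ⟨⟨h, hh⟩, rfl⟩
          exact ⟨⟨e h, ⟨h, hh, rfl⟩⟩, by show e.symm (e h) • S.rep i = h • S.rep i; rw [e.symm_apply_apply]⟩
      cover := fun x => by
        obtain ⟨i, ⟨h, hh⟩, rfl⟩ := S.cover x
        exact ⟨i, ⟨⟨e h, ⟨h, hh, rfl⟩⟩, by show e.symm (e h) • S.rep i = h • S.rep i; rw [e.symm_apply_apply]⟩⟩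
      sum_size := S.sum_size }
  exact ⟨S'.index_eq, fun i => S'.exists_coset_orbit i⟩

end CfsgLib.Spor.TC
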