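/-
Packed tables of bounded numbers, reducible by the kernel in logarithmic time.
-/
import Mathlib.Tactic.Common

namespace CfsgLib.Spor.TC

/-- A table: a binary tree of natural numbers, each packing 32 entries. -/
inductive Tbl where
  | none : Tbl
  | tip : ℕ → Tbl
  | bin : Tbl → Tbl → Tbl

/-- The block holding entry `32 * k`; keys are read from the least significant bit. -/
noncomputable def Tbl.block (t : Tbl) (k : ℕ) : ℕ :=
  Tbl.rec (motive := fun _ => ℕ → ℕ) (fun _ => 0) (fun v _ => v)
    (fun _ _ gl gr k => Bool.rec (gr (Nat.shiftRight k 1)) (gl (Nat.shiftRight k 1)) (Nat.beq (Nat.land k 1) 0))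
    t k

/-- The entry `i`, of width `w` bits. -/
noncomputable def Tbl.get (t : Tbl) (w i : ℕ) : ℕ :=
  Nat.land (Nat.shiftRight (t.block (Nat.shiftRight i 5)) (Nat.mul w (Nat.land i 31))) (Nat.sub (Nat.pow 2 w) 1)

end CfsgLib.Spor.TC
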