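/-
Words in letters, letters defined by words, and presented groups given by words.
-/
import Cfsg.Agent.Lib.Spor.TC.Check
import Mathlib.Algebra.Group.Submonoid.BigOperators
import Mathlib.GroupTheory.PresentedGroup

namespace CfsgLib.Spor.TC

variable {G : Type*} [Group G]

theorem ev_congr {g g' : ℕ → G} {w : List ℕ} (h : ∀ x ∈ w, g x = g' x) : ev g w = ev g' w := by
  unfold ev
  rw [List.map_congr_left h]

theorem map_ev {G' : Type*} [Group G'] (f : G →* G') (g : ℕ → G) (w : List ℕ) :
    f (ev g w) = ev (fun x => f (g x)) w := by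
  simp [ev, map_list_prod, List.map_map, Function.comp_def]

theorem ev_mem {g : ℕ → G} {S : Subgroup G} {w : List ℕ} (h : ∀ x ∈ w, g x ∈ S) : ev g w ∈ S :=
  list_prod_mem fun y hy => by
    obtain ⟨x, hx, rfl⟩ := List.mem_map.1 hy
    exact h x hx

/-- A power of a word. -/
def powWord (w : List ℕ) : ℕ → List ℕ
  | 0 => []
  | m + 1 => w ++ powWord w m

theorem ev_powWord (g : ℕ → G) (w : List ℕ) (m : ℕ) : ev g (powWord w m) = ev g w ^ m := by
  induction m with
  | zero => simp [powWord, ev]
  | succ m ih => rw [powWord, ev_append, ih, pow_succ']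

/-- All letters are below `k`. -/
noncomputable def allBelow (k : ℕ) (w : List ℕ) : Bool :=
  List.rec (motive := fun _ => Bool) true (fun a _ ih => Nat.blt a k && ih) w

theorem allBelow_spec {k : ℕ} : ∀ {w : List ℕ}, allBelow k w = true → ∀ x ∈ w, x < k := by
  intro w
  induction w with
  | nil => intro _ x hx; simp at hx
  | cons a w ih =>
    intro h x hx
    change (Nat.blt a k && allBelow k w) = true at h
    simp only [Bool.and_eq_true] at h
    rcases List.mem_cons.1 hx with rfl | hx
    · exact Nat.le_of_ble_eq_true h.1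
    · exact ih h.2 x hx

/-- Letters from `k` on, defined in turn by words in earlier letters. -/
def extend (g : ℕ → G) : ℕ → List (List ℕ) → ℕ → G
  | _, [] => g
  | k, w :: ws => extend (Function.update g k (ev g w)) (k + 1) ws

theorem extend_of_lt : ∀ (ws : List (List ℕ)) (g : ℕ → G) {k x : ℕ}, x < k → extend g k ws x = g x := by
  intro ws
  induction ws with
  | nil => intros; rfl
  | cons w ws ih =>
    intro g k x hx
    rw [extend, ih _ (Nat.lt_succ_of_lt hx), Function.update_of_ne hx.ne]

/-- Each defining word uses earlier letters only. -/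
noncomputable def defsBelow (ws : List (List ℕ)) (k : ℕ) : Bool :=
  List.rec (motive := fun _ => ℕ → Bool) (fun _ => true) (fun w _ ih k => allBelow k w && ih (Nat.add k 1)) ws k

theorem extend_def : ∀ (ws : List (List ℕ)) (g : ℕ → G) {k : ℕ}, defsBelow ws k = true →
    ∀ i w, ws[i]? = some w → extend g k ws (k + i) = ev (extend g k ws) w := by
  intro ws
  induction ws with
  | nil => intro g k _ i w h; simp at h
  | cons w0 ws ih =>
    intro g k h i w hi
    change (allBelow k w0 && defsBelow ws (k + 1)) = true at h
    simp only [Bool.and_eq_true] at h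
    cases i with
    | zero =>
      simp at hi
      subst hi
      rw [Nat.add_zero, extend, extend_of_lt _ _ (Nat.lt_succ_self k), Function.update_self]
      refine ev_congr fun x hx => ?_
      have hxk := allBelow_spec h.1 x hx
      rw [extend_of_lt _ _ (Nat.lt_succ_of_lt hxk), Function.update_of_ne hxk.ne]
    | succ i =>
      simp at hi
      rw [show k + (i + 1) = k + 1 + i by omega, extend]
      exact ih _ h.2 i w hi

theorem extend_mem : ∀ (ws : List (List ℕ)) (g : ℕ → G) {k : ℕ} {S : Subgroup G}, defsBelow ws k = true →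
    (∀ x, x < k → g x ∈ S) → ∀ x, x < k + ws.length → extend g k ws x ∈ S := by
  intro ws
  induction ws with
  | nil => intro g k S _ h x hx; exact h x (by simpa using hx)
  | cons w0 ws ih =>
    intro g k S h hg x hx
    change (allBelow k w0 && defsBelow ws (k + 1)) = true at h
    simp only [Bool.and_eq_true] at h
    rw [extend]
    refine ih _ h.2 (fun y hy => ?_) x (by simp at hx; omega)
    by_cases hyk : y = k
    · subst hyk
      rw [Function.update_self]
      exact ev_mem fun z hz => hg z (allBelow_spec h.1 z hz)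
    · rw [Function.update_of_ne hyk]
      exact hg y (by omega)

/-- A relator given as a word and an exponent. -/
abbrev PowRel := List ℕ × ℕ

/-- The relators as words. -/
def relWords (rels : List PowRel) : List (List ℕ) := rels.map fun r => powWord r.1 r.2

/-- `k` involutions satisfying the relators. -/
structure Sat (k : ℕ) (rels : List PowRel) (g : ℕ → G) : Prop where
  sq : ∀ x, g x * g x = 1
  out : ∀ x, k ≤ x → g x = 1
  rel : ∀ r ∈ rels, ev g r.1 ^ r.2 = 1

theorem Sat.rel_word {k : ℕ} {rels : List PowRel} {g : ℕ → G} (h : Sat k rels g) :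
    ∀ w ∈ relWords rels, ev g w = 1 := by
  intro w hw
  obtain ⟨r, hr, rfl⟩ := List.mem_map.1 hw
  rw [ev_powWord]
  exact h.rel r hr

/-- The free generators, continued by `1`. -/
def freeGen (k : ℕ) (x : ℕ) : FreeGroup (Fin k) := if h : x < k then FreeGroup.of ⟨x, h⟩ else 1

/-- The relators of the presented group. -/
def presRels (k : ℕ) (rels : List PowRel) : Set (FreeGroup (Fin k)) :=
  {r | (∃ x, r = freeGen k x * freeGen k x) ∨ ∃ p ∈ rels, r = ev (freeGen k) p.1 ^ p.2}

/-- The group on `k` involutions with the relators. -/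
abbrev Pres (k : ℕ) (rels : List PowRel) : Type := PresentedGroup (presRels k rels)

/-- Its generators. -/
def presGen (k : ℕ) (rels : List PowRel) (x : ℕ) : Pres k rels := PresentedGroup.mk _ (freeGen k x)

theorem sat_presGen (k : ℕ) (rels : List PowRel) : Sat k rels (presGen k rels) := by
  refine ⟨fun x => ?_, fun x hx => ?_, fun r hr => ?_⟩
  · rw [presGen, ← map_mul]
    exact PresentedGroup.one_of_mem (Or.inl ⟨x, rfl⟩)
  · rw [presGen, freeGen, dif_neg (Nat.not_lt.2 hx), map_one]
  · rw [show ev (presGen k rels) r.1 = PresentedGroup.mk _ (ev (freeGen k) r.1) from (map_ev _ _ _).symm,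
      ← map_pow]
    exact PresentedGroup.one_of_mem (Or.inr ⟨r, hr, rfl⟩)

theorem closure_presGen (k : ℕ) (rels : List PowRel) :
    Subgroup.closure (presGen k rels '' Set.Iio k) = ⊤ := by
  rw [eq_top_iff, ← PresentedGroup.closure_range_of, Subgroup.closure_le]
  rintro _ ⟨x, rfl⟩
  refine Subgroup.subset_closure ⟨x, x.2, ?_⟩
  rw [presGen, freeGen, dif_pos x.2]
  rfl

variable {k : ℕ} {rels : List PowRel} {g : ℕ → G}

/-- The universal map. -/
def presHom (h : Sat k rels g) : Pres k rels →* G :=
  PresentedGroup.toGroup (f := fun x : Fin k => g x) (by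
    have hf : ∀ y, FreeGroup.lift (fun x : Fin k => g x) (freeGen k y) = g y := by
      intro y
      by_cases hy : y < k
      · rw [freeGen, dif_pos hy, FreeGroup.lift_apply_of]
      · rw [freeGen, dif_neg hy, map_one, h.out y (Nat.le_of_not_lt hy)]
    rintro r (⟨x, rfl⟩ | ⟨p, hp, rfl⟩)
    · rw [map_mul, hf, h.sq]
    · rw [map_pow, map_ev]
      simp only [hf]
      exact h.rel p hp)

theorem presHom_gen (h : Sat k rels g) (x : ℕ) : presHom h (presGen k rels x) = g x := by
  by_cases hx : x < k
  · rw [presGen, freeGen, dif_pos hx]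
    exact PresentedGroup.toGroup.of _
  · rw [presGen, freeGen, dif_neg hx, map_one, map_one, h.out x (Nat.le_of_not_lt hx)]

theorem presHom_surjective (h : Sat k rels g) (hgen : Subgroup.closure (g '' Set.Iio k) = ⊤) :
    Function.Surjective (presHom h) := by
  rw [← MonoidHom.range_eq_top, eq_top_iff, ← hgen, Subgroup.closure_le]
  rintro _ ⟨x, -, rfl⟩
  exact ⟨_, presHom_gen h x⟩

theorem range_presHom (h : Sat k rels g) : (presHom h).range = Subgroup.closure (g '' Set.Iio k) := by
  rw [MonoidHom.range_eq_map, ← closure_presGen k rels, MonoidHom.map_closure, Set.image_image]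
  congr 1
  exact Set.image_congr' fun x => presHom_gen h x

/-- A certificate for the index of a subgroup in the presented group. -/
theorem Cert.index_le_pres {C : Cert} {nE n : ℕ} (hsteps : C.StepsOK 0 nE) (hrows : C.RowsOK nE n 0 n)
    (hzero : C.rowNode 0 = 0) (hn : 0 < n) (hk : C.k = k) (hrels : C.rels = relWords rels)
    (H : Subgroup (Pres k rels)) (hsubs : ∀ w ∈ C.subs, ev (presGen k rels) w ∈ H) :
    H.index ≠ 0 ∧ H.index ≤ n := by
  subst hk
  exact C.index_le hsteps hrows hzero hn _ (sat_presGen _ _).sq ((sat_presGen _ _).out _ le_rfl)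
    (closure_presGen _ _) (by rw [hrels]; exact (sat_presGen _ _).rel_word) H hsubs

end CfsgLib.Spor.TC
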