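/-
Permutation actions given by tables, orbits, and lower bounds for orders by base points.
-/
import Cfsg.Agent.Lib.Spor.TC.Word
import Mathlib.Algebra.Group.Subgroup.Finite
import Mathlib.GroupTheory.Perm.Basic
import Mathlib.GroupTheory.GroupAction.Quotient

namespace CfsgLib.Spor.TC

/-- Tables for `k` involutions and the letters defined from them, on `n` points. -/
structure Act where
  k : ℕ
  n : ℕ
  defs : List (List ℕ)
  T : ℕ → ℕ → ℕ

variable (A : Act)

noncomputable def Act.K : ℕ := Nat.add A.k A.defs.length

/-- A word acting. -/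
noncomputable def Act.wact (w : List ℕ) (c : ℕ) : ℕ :=
  List.rec (motive := fun _ => ℕ) c (fun a _ ih => A.T a ih) w

noncomputable def Act.wpow (w : List ℕ) (m c : ℕ) : ℕ :=
  Nat.rec (motive := fun _ => ℕ) c (fun _ ih => A.wact w ih) m

/-- A test for the numbers `a, …, a + len - 1`. -/
noncomputable def allFrom (f : ℕ → Bool) (a len : ℕ) : Bool :=
  Nat.rec (motive := fun _ => ℕ → Bool) (fun _ => true) (fun _ ih a => f a && ih (Nat.add a 1)) len a

theorem allFrom_spec {f : ℕ → Bool} : ∀ {len a : ℕ}, allFrom f a len = true → ∀ i, a ≤ i → i < a + len →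
    f i = true := by
  intro len
  induction len with
  | zero => intro a _ i h1 h2; omega
  | succ len ih =>
    intro a h i h1 h2
    change (f a && allFrom f (a + 1) len) = true at h
    simp only [Bool.and_eq_true] at h
    by_cases hi : i = a
    · exact hi ▸ h.1
    · exact ih h.2 i (by omega) (by omega)

/-- A letter is an involution at one point, or agrees with its defining word. -/
noncomputable def Act.invOK (c : ℕ) : Bool :=
  allFrom (fun x => Nat.blt (A.T x c) A.n && Nat.beq (A.T x (A.T x c)) c) 0 A.k

noncomputable def Act.defsOKAt (c : ℕ) (ws : List (List ℕ)) (x : ℕ) : Bool :=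
  List.rec (motive := fun _ => ℕ → Bool) (fun _ => true)
    (fun w _ ih x => (allBelow x w && Nat.beq (A.T x c) (A.wact w c)) && ih (Nat.add x 1)) ws x

noncomputable def Act.pointOK (c : ℕ) : Bool := A.invOK c && A.defsOKAt c A.defs A.k

/-- The letters of the relator: a defined letter when one has this word. -/
noncomputable def shortWord (ws : List (List ℕ)) (w : List ℕ) (x : ℕ) : List ℕ :=
  List.rec (motive := fun _ => ℕ → List ℕ) (fun _ => w)
    (fun v _ ih x => Bool.rec (ih (Nat.add x 1)) [x] (beqWord v w)) ws x

noncomputable def Act.relsOKAt (c : ℕ) (rels : List PowRel) : Bool :=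
  List.rec (motive := fun _ => Bool) true
    (fun r _ ih => Nat.beq (A.wpow (shortWord A.defs r.1 A.k) r.2 c) c && ih) rels

/-- The check of points `a, …, b - 1`. -/
noncomputable def Act.checkRange (rels : List PowRel) (a b : ℕ) : Bool :=
  allFrom (fun c => A.pointOK c && A.relsOKAt c rels) a (Nat.sub b a)

def Act.RangeOK (rels : List PowRel) (a b : ℕ) : Prop :=
  ∀ c, a ≤ c → c < b → A.pointOK c = true ∧ A.relsOKAt c rels = true

theorem Act.RangeOK.of_check {rels : List PowRel} {a b : ℕ} (h : A.checkRange rels a b = true) :
    A.RangeOK rels a b := fun c h1 h2 => by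
  have h3 := allFrom_spec h c h1 (show c < a + (b - a) by omega)
  simpa only [Bool.and_eq_true] using h3

theorem Act.RangeOK.append {rels : List PowRel} {a b c : ℕ} (h1 : A.RangeOK rels a b)
    (h2 : A.RangeOK rels b c) : A.RangeOK rels a c :=
  fun x ha hc => if h : x < b then h1 x ha h else h2 x (by omega) hc

/-- What a checked action satisfies. -/
structure Act.Valid (rels : List PowRel) : Prop where
  range : A.RangeOK rels 0 A.n
  below : defsBelow A.defs A.k = true
  relsBelow : ∀ r ∈ rels, ∀ x ∈ r.1, x < A.k

/-- The generators of the presented group, and the letters defined from them. -/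
def Act.letters (rels : List PowRel) (x : ℕ) : Pres A.k rels := extend (presGen A.k rels) A.k A.defs x

section

variable {A} {rels : List PowRel} (h : A.Valid rels)
include h

theorem Act.Valid.inv {x c : ℕ} (hx : x < A.k) (hc : c < A.n) : A.T x c < A.n ∧ A.T x (A.T x c) = c := by
  have h1 := (h.range c (Nat.zero_le c) hc).1
  unfold Act.pointOK Act.invOK at h1
  simp only [Bool.and_eq_true] at h1
  have h2 := allFrom_spec h1.1 x (Nat.zero_le x) (by omega)
  simp only [Bool.and_eq_true] at h2
  exact ⟨Nat.le_of_ble_eq_true h2.1, Nat.eq_of_beq_eq_true h2.2⟩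

/-- The involution of a letter. -/
def Act.Valid.invPerm (x : ℕ) : Equiv.Perm (Fin A.n) :=
  if hx : x < A.k then
    { toFun := fun c => ⟨A.T x c, (h.inv hx c.2).1⟩
      invFun := fun c => ⟨A.T x c, (h.inv hx c.2).1⟩
      left_inv := fun c => Fin.ext (h.inv hx c.2).2
      right_inv := fun c => Fin.ext (h.inv hx c.2).2 }
  else 1

/-- All letters. -/
def Act.Valid.perm (x : ℕ) : Equiv.Perm (Fin A.n) := extend h.invPerm A.k A.defs x

theorem Act.Valid.invPerm_apply {x : ℕ} (hx : x < A.k) (c : Fin A.n) : (h.invPerm x c : ℕ) = A.T x c := by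
  rw [Act.Valid.invPerm, dif_pos hx]; rfl

theorem Act.Valid.perm_apply : ∀ {x : ℕ}, x < A.K → ∀ c : Fin A.n, (h.perm x c : ℕ) = A.T x c := by
  intro x
  induction x using Nat.strong_induction_on with
  | _ x ih =>
    intro hx c
    by_cases hxk : x < A.k
    · rw [Act.Valid.perm, extend_of_lt _ _ hxk, h.invPerm_apply hxk]
    obtain ⟨i, rfl⟩ : ∃ i, x = A.k + i := ⟨x - A.k, by omega⟩
    have hi : i < A.defs.length := by
      have : A.k + i < A.k + A.defs.length := hx
      omega
    have hdef := extend_def A.defs h.invPerm h.below i _ (List.getElem?_eq_getElem hi)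
    rw [Act.Valid.perm, hdef]
    have h1 := (h.range c (Nat.zero_le _) c.2).1
    unfold Act.pointOK at h1
    simp only [Bool.and_eq_true] at h1
    have key : ∀ (ws : List (List ℕ)) (x0 i : ℕ), A.defsOKAt c ws x0 = true → (hi : i < ws.length) →
        (∀ y ∈ ws[i], y < x0 + i) ∧ A.T (x0 + i) c = A.wact ws[i] c := by
      intro ws
      induction ws with
      | nil => intro x0 i _ hi; simp at hi
      | cons w ws ihw =>
        intro x0 i hok hi
        change ((allBelow x0 w && Nat.beq (A.T x0 c) (A.wact w c)) && A.defsOKAt c ws (x0 + 1)) = true at hok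
        simp only [Bool.and_eq_true] at hok
        cases i with
        | zero => exact ⟨allBelow_spec hok.1.1, Nat.eq_of_beq_eq_true hok.1.2⟩
        | succ i =>
          rw [show x0 + (i + 1) = x0 + 1 + i by omega]
          exact ihw _ _ hok.2 (by simpa using hi)
    obtain ⟨hlt, hT⟩ := key A.defs A.k i h1.2 hi
    rw [hT]
    generalize A.defs[i] = w at hlt ⊢
    clear hT key h1
    induction w with
    | nil => simp [ev, Act.wact]
    | cons a w ihw =>
      rw [ev_cons, Equiv.Perm.mul_apply]
      show _ = A.T a (A.wact w c)
      rw [← ihw fun y hy => hlt y (List.mem_cons_of_mem _ hy)]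
      have ha := hlt a List.mem_cons_self
      exact ih a ha (show a < A.k + A.defs.length by omega) _

theorem Act.Valid.wact_eq : ∀ {w : List ℕ}, (∀ x ∈ w, x < A.K) → ∀ c : Fin A.n,
    (ev h.perm w c : ℕ) = A.wact w c := by
  intro w
  induction w with
  | nil => intro _ c; simp [ev, Act.wact]
  | cons a w ih =>
    intro hw c
    rw [ev_cons, Equiv.Perm.mul_apply]
    show _ = A.T a (A.wact w c)
    rw [← ih (fun x hx => hw x (List.mem_cons_of_mem _ hx)), h.perm_apply (hw a List.mem_cons_self)]

theorem Act.Valid.perm_of_lt {x : ℕ} (hx : x < A.k) : h.perm x = h.invPerm x := extend_of_lt _ _ hx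

theorem Act.Valid.sat : Sat A.k rels h.invPerm := by
  refine ⟨fun x => ?_, fun x hx => ?_, fun r hr => ?_⟩
  · by_cases hx : x < A.k
    · ext c
      rw [Equiv.Perm.mul_apply, h.invPerm_apply hx, h.invPerm_apply hx, (h.inv hx c.2).2]
      rfl
    · rw [Act.Valid.invPerm, dif_neg hx, one_mul]
  · rw [Act.Valid.invPerm, dif_neg (Nat.not_lt.2 hx)]
  · -- the word or its defined letter
    have hev : ev h.invPerm r.1 = ev h.perm (shortWord A.defs r.1 A.k) ∧
        ∀ x ∈ shortWord A.defs r.1 A.k, x < A.K := by
      have hbase : ev h.invPerm r.1 = ev h.perm r.1 :=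
        ev_congr fun x hx => (h.perm_of_lt (h.relsBelow r hr x hx)).symm
      have key : ∀ (ws : List (List ℕ)) (i : ℕ), (∀ j, (hj : j < ws.length) → A.defs[i + j]? = some ws[j]) →
          (shortWord ws r.1 (A.k + i) = r.1) ∨ ∃ j, shortWord ws r.1 (A.k + i) = [A.k + j] ∧ A.defs[j]? = some r.1 := by
        intro ws
        induction ws with
        | nil => intro i _; exact Or.inl rfl
        | cons v ws ihw =>
          intro i hj
          show (Bool.rec (shortWord ws r.1 (A.k + i + 1)) [A.k + i] (beqWord v r.1) = r.1) ∨
            ∃ j, Bool.rec (shortWord ws r.1 (A.k + i + 1)) [A.k + i] (beqWord v r.1) = [A.k + j] ∧ _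
          rcases hb : beqWord v r.1
          · exact ihw (i + 1) fun j hj' => by
              have := hj (j + 1) (by simpa using hj')
              simpa [Nat.add_assoc, Nat.add_comm 1 j] using this
          · refine Or.inr ⟨i, rfl, ?_⟩
            have := hj 0 (by simp)
            simpa [beqWord_iff hb] using this
      rcases key A.defs 0 (fun j hj => by simpa using List.getElem?_eq_getElem hj) with e | ⟨j, e, hj⟩
      · rw [Nat.add_zero] at e
        rw [e]
        exact ⟨hbase, fun x hx => lt_of_lt_of_le (h.relsBelow r hr x hx) (Nat.le_add_right _ _)⟩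
      · rw [Nat.add_zero] at e
        rw [e]
        refine ⟨?_, fun x hx => ?_⟩
        · rw [hbase]
          have h2 := extend_def A.defs h.invPerm h.below j _ hj
          simp only [ev, List.map_cons, List.map_nil, List.prod_cons, List.prod_nil, mul_one]
          exact h2.symm
        · rw [List.mem_singleton.1 hx]
          have : j < A.defs.length := (List.getElem?_eq_some_iff.1 hj).1
          exact Nat.add_lt_add_left this _
    rw [hev.1]
    ext c
    have h1 := (h.range c (Nat.zero_le _) c.2).2
    have key : ∀ (rs : List PowRel), A.relsOKAt c rs = true → ∀ p ∈ rs,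
        A.wpow (shortWord A.defs p.1 A.k) p.2 c = c := by
      intro rs
      induction rs with
      | nil => intro _ p hp; simp at hp
      | cons r0 rs ihr =>
        intro hok p hp
        change (Nat.beq (A.wpow (shortWord A.defs r0.1 A.k) r0.2 c) c && A.relsOKAt c rs) = true at hok
        simp only [Bool.and_eq_true] at hok
        rcases List.mem_cons.1 hp with rfl | hp
        · exact Nat.eq_of_beq_eq_true hok.1
        · exact ihr hok.2 p hp
    have hp : ∀ m : ℕ, ((ev h.perm (shortWord A.defs r.1 A.k) ^ m) c : ℕ) =
        A.wpow (shortWord A.defs r.1 A.k) m c := by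
      intro m
      induction m with
      | zero => rfl
      | succ m ihm =>
        rw [pow_succ', Equiv.Perm.mul_apply, h.wact_eq hev.2, ihm]
        rfl
    rw [hp, key rels h1 r hr]
    rfl

/-- The permutation representation. -/
def Act.Valid.rho : Pres A.k rels →* Equiv.Perm (Fin A.n) := presHom h.sat

theorem Act.Valid.rho_letters : ∀ x, h.rho (A.letters rels x) = h.perm x := by
  have key : ∀ (ws : List (List ℕ)) (g : ℕ → Pres A.k rels) (p : ℕ → Equiv.Perm (Fin A.n)) (k : ℕ),
      (∀ x, h.rho (g x) = p x) → ∀ x, h.rho (extend g k ws x) = extend p k ws x := by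
    intro ws
    induction ws with
    | nil => intro g p k hgp x; exact hgp x
    | cons w ws ihw =>
      intro g p k hgp x
      refine ihw _ _ _ (fun y => ?_) x
      by_cases hy : y = k
      · subst hy
        rw [Function.update_self, Function.update_self, map_ev]
        exact ev_congr fun z _ => hgp z
      · rw [Function.update_of_ne hy, Function.update_of_ne hy]
        exact hgp y
  exact key A.defs _ _ A.k fun x => presHom_gen h.sat x

end

/-! ### Orbit trees and base points -/

/-- A level: a base point, letters fixing the earlier base points, and the number of orbit points shown.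
Row `i + 1` of the tree gives the point, the index of its parent row and the letter. -/
structure Level where
  base : ℕ
  gens : List ℕ
  size : ℕ
  pt : ℕ → ℕ
  parent : ℕ → ℕ
  letter : ℕ → ℕ
  rank : ℕ → ℕ

/-- Membership of a number in a list. -/
noncomputable def memNat (x : ℕ) (l : List ℕ) : Bool :=
  List.rec (motive := fun _ => Bool) false (fun a _ ih => Nat.beq a x || ih) l

theorem memNat_spec {x : ℕ} : ∀ {l : List ℕ}, memNat x l = true → x ∈ l := by
  intro l
  induction l with
  | nil => intro h; cases h
  | cons a l ih =>
    intro h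
    change (Nat.beq a x || memNat x l) = true at h
    simp only [Bool.or_eq_true] at h
    rcases h with h | h
    · rw [Nat.eq_of_beq_eq_true h]; exact List.mem_cons_self
    · exact List.mem_cons_of_mem _ (ih h)

noncomputable def Act.rowOK (L : Level) (i : ℕ) : Bool :=
  Nat.beq (L.rank (L.pt i)) i &&
    (Nat.beq i 0 && Nat.beq (L.pt i) L.base ||
      Nat.blt (L.parent i) i && memNat (L.letter i) L.gens &&
        Nat.beq (A.T (L.letter i) (L.pt (L.parent i))) (L.pt i))

noncomputable def Act.fixesOK (L : Level) (earlier : List ℕ) : Bool :=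
  List.rec (motive := fun _ => Bool) true
    (fun s _ ih => (Nat.blt s A.K &&
      List.rec (motive := fun _ => Bool) true (fun b _ ihb => Nat.beq (A.T s b) b && ihb) earlier) && ih) L.gens

/-- Distinct points of the orbit of the base point. -/
noncomputable def Act.levelOK (L : Level) (earlier : List ℕ) : Bool :=
  A.fixesOK L earlier && Nat.blt L.base A.n && Nat.blt 0 L.size && allFrom (A.rowOK L) 0 L.size

noncomputable def Act.levelsOK (Ls : List Level) (earlier : List ℕ) : Bool :=
  List.rec (motive := fun _ => List ℕ → Bool) (fun _ => true)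
    (fun L _ ih earlier => A.levelOK L earlier && ih (L.base :: earlier)) Ls earlier

/-- The product of the orbit sizes shown. -/
def levelsProd : List Level → ℕ
  | [] => 1
  | L :: Ls => L.size * levelsProd Ls

theorem levelOK_fixes {L : Level} {earlier : List ℕ} (hok : A.levelOK L earlier = true) :
    ∀ s ∈ L.gens, s < A.K ∧ ∀ b ∈ earlier, A.T s b = b := by
  simp only [Act.levelOK, Bool.and_eq_true] at hok
  have hf := hok.1.1.1
  unfold Act.fixesOK at hf
  revert hf
  generalize L.gens = gs
  induction gs with
  | nil => intro _ s hs; simp at hs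
  | cons s0 gs ih =>
    intro hf s hs
    simp only [Bool.and_eq_true] at hf
    rcases List.mem_cons.1 hs with rfl | hs
    · refine ⟨Nat.le_of_ble_eq_true hf.1.1, ?_⟩
      have h2 := hf.1.2
      revert h2
      generalize earlier = es
      induction es with
      | nil => intro _ b hb; simp at hb
      | cons e es ihe =>
        intro h2 b hb
        simp only [Bool.and_eq_true] at h2
        rcases List.mem_cons.1 hb with rfl | hb
        · exact Nat.eq_of_beq_eq_true h2.1
        · exact ihe h2.2 b hb
    · exact ih hf.2 s hs

theorem card_ge_of_levels {rels : List PowRel} (h : A.Valid rels) :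
    ∀ (Ls : List Level) (earlier : List ℕ) (M : Subgroup (Equiv.Perm (Fin A.n))),
      A.levelsOK Ls earlier = true →
      (∀ L ∈ Ls, ∀ x ∈ L.gens, (∀ b ∈ earlier, A.T x b = b) → h.perm x ∈ M) →
      levelsProd Ls ≤ Nat.card M := by
  intro Ls
  induction Ls with
  | nil => intro _ M _ _; exact Nat.card_pos
  | cons L Ls ih =>
    intro earlier M hok hM
    change (A.levelOK L earlier && A.levelsOK Ls (L.base :: earlier)) = true at hok
    simp only [Bool.and_eq_true] at hok
    have hfix := levelOK_fixes A hok.1
    have hok1 := hok.1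
    simp only [Act.levelOK, Bool.and_eq_true] at hok1
    obtain ⟨⟨⟨-, hbase⟩, hsz⟩, hrows⟩ := hok1
    let b : Fin A.n := ⟨L.base, Nat.le_of_ble_eq_true hbase⟩
    have hrow : ∀ i, i < L.size → L.rank (L.pt i) = i ∧ ∃ c : Fin A.n, (c : ℕ) = L.pt i ∧
        c ∈ MulAction.orbit M b := by
      intro i
      induction i using Nat.strong_induction_on with
      | _ i ihi =>
        intro hi
        have h1 := allFrom_spec hrows i (Nat.zero_le i) (by omega)
        simp only [Act.rowOK, Bool.and_eq_true, Bool.or_eq_true] at h1
        refine ⟨Nat.eq_of_beq_eq_true h1.1, ?_⟩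
        rcases h1.2 with ⟨-, hb⟩ | ⟨⟨hp, hl⟩, ht⟩
        · exact ⟨b, (Nat.eq_of_beq_eq_true hb).symm, MulAction.mem_orbit_self b⟩
        · have hpi : L.parent i < i := Nat.le_of_ble_eq_true hp
          obtain ⟨-, c, hc, hco⟩ := ihi _ hpi (hpi.trans hi)
          have hs := memNat_spec hl
          refine ⟨h.perm (L.letter i) c, ?_, ?_⟩
          · rw [h.perm_apply (hfix _ hs).1, hc]
            exact Nat.eq_of_beq_eq_true ht
          · obtain ⟨m, hm⟩ := hco
            refine ⟨⟨h.perm (L.letter i), hM L List.mem_cons_self _ hs (hfix _ hs).2⟩ * m, ?_⟩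
            rw [← hm]
            exact mul_smul _ _ _
    choose hrank pts hpts horb using hrow
    have horbit : L.size ≤ Nat.card (MulAction.orbit M b) := by
      have hinj : Function.Injective fun i : Fin L.size =>
          (⟨pts i i.2, horb i i.2⟩ : MulAction.orbit M b) := by
        intro i j hij
        have h1 := congrArg (fun z : MulAction.orbit M b => L.rank ((z : Fin A.n) : ℕ)) hij
        simp only [hpts, hrank i i.2, hrank j j.2] at h1
        exact Fin.ext h1
      calc L.size = Nat.card (Fin L.size) := (Nat.card_fin _).symm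
        _ ≤ _ := Nat.card_le_card_of_injective _ hinj
    have hstab : levelsProd Ls ≤ Nat.card (MulAction.stabilizer M b) := by
      have hlt : ∀ (Ls : List Level) (e : List ℕ), A.levelsOK Ls e = true → ∀ L ∈ Ls, ∀ x ∈ L.gens, x < A.K := by
        intro Ls
        induction Ls with
        | nil => intro _ _ L hL; simp at hL
        | cons L0 Ls ihl =>
          intro e he L hL x hx
          change (A.levelOK L0 e && A.levelsOK Ls (L0.base :: e)) = true at he
          simp only [Bool.and_eq_true] at he
          rcases List.mem_cons.1 hL with rfl | hL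
          · exact (levelOK_fixes A he.1 x hx).1
          · exact ihl _ he.2 L hL x hx
      refine (ih (L.base :: earlier) ((MulAction.stabilizer M b).map M.subtype) hok.2
        fun L' hL' x hx hfx => ?_).trans_eq (Subgroup.card_map_of_injective M.subtype_injective)
      refine ⟨⟨h.perm x, hM L' (List.mem_cons_of_mem _ hL') x hx
        fun c hc => hfx c (List.mem_cons_of_mem _ hc)⟩, ?_, rfl⟩
      rw [SetLike.mem_coe, MulAction.mem_stabilizer_iff]
      exact Fin.ext ((h.perm_apply (hlt Ls _ hok.2 L' hL' x hx) b).trans (hfx L.base List.mem_cons_self))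
    calc levelsProd (L :: Ls) = L.size * levelsProd Ls := rfl
      _ ≤ Nat.card (MulAction.orbit M b) * Nat.card (MulAction.stabilizer M b) := Nat.mul_le_mul horbit hstab
      _ = Nat.card M := by
          rw [← Nat.card_prod]
          exact Nat.card_congr (MulAction.orbitProdStabilizerEquivGroup M b)

/-- The order of the presented group is at least the product of the levels, if it is finite. -/
theorem card_pres_ge {rels : List PowRel} (h : A.Valid rels) {Ls : List Level}
    (hLs : A.levelsOK Ls [] = true) (hfin : Nat.card (Pres A.k rels) ≠ 0) :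
    levelsProd Ls ≤ Nat.card (Pres A.k rels) := by
  haveI : Finite (Pres A.k rels) := Nat.finite_of_card_ne_zero hfin
  refine (card_ge_of_levels A h Ls [] h.rho.range hLs fun _ _ x _ _ => ⟨_, h.rho_letters x⟩).trans ?_
  exact Nat.card_le_card_of_surjective h.rho.rangeRestrict h.rho.rangeRestrict_surjective

end CfsgLib.Spor.TC
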