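/-
Exact orbits and suborbits from checked trees.
-/
import Cfsg.Agent.Lib.Spor.TC.Action
import Cfsg.Agent.Lib.Spor.TC.Criteria

namespace CfsgLib.Spor.TC

open MulAction

variable (A : Act)

/-- A number is one of the points shown by a level. -/
noncomputable def Level.memB (L : Level) (c : ℕ) : Bool :=
  Nat.blt (L.rank c) L.size && Nat.beq (L.pt (L.rank c)) c

theorem Level.memB_iff {L : Level} {c : ℕ} : L.memB c = true ↔ L.rank c < L.size ∧ L.pt (L.rank c) = c := by
  simp only [Level.memB, Bool.and_eq_true]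
  exact and_congr ⟨Nat.le_of_ble_eq_true, Nat.ble_eq_true_of_le⟩ ⟨Nat.eq_of_beq_eq_true, fun h => by rw [h]; exact Nat.beq_refl _⟩

noncomputable def allList (f : ℕ → Bool) (l : List ℕ) : Bool :=
  List.rec (motive := fun _ => Bool) true (fun a _ ih => f a && ih) l

theorem allList_spec {f : ℕ → Bool} : ∀ {l : List ℕ}, allList f l = true → ∀ a ∈ l, f a = true := by
  intro l
  induction l with
  | nil => intro _ a ha; simp at ha
  | cons b l ih =>
    intro h a ha
    change (f b && allList f l) = true at h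
    simp only [Bool.and_eq_true] at h
    rcases List.mem_cons.1 ha with rfl | ha
    · exact h.1
    · exact ih h.2 a ha

/-- A tree from the base point whose points are closed under the letters. -/
noncomputable def Act.orbitOK (L : Level) : Bool :=
  A.levelOK L [] && allFrom (fun i => allList (fun s => L.memB (A.T s (L.pt i))) L.gens) 0 L.size

variable {A} {G : Type*} [Group G] [MulAction G (Fin A.n)] {g : ℕ → G}

theorem tree_mem (L : Level) (hact : ∀ x, x < A.K → ∀ c : Fin A.n, ((g x • c : Fin A.n) : ℕ) = A.T x c)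
    (hok : A.levelOK L [] = true) :
    ∃ b : Fin A.n, (b : ℕ) = L.base ∧ ∀ i, i < L.size → L.rank (L.pt i) = i ∧
      ∃ c : Fin A.n, (c : ℕ) = L.pt i ∧ c ∈ orbit (Subgroup.closure (g '' {x | x ∈ L.gens})) b := by
  have hfix := levelOK_fixes A hok
  simp only [Act.levelOK, Bool.and_eq_true] at hok
  obtain ⟨⟨⟨-, hbase⟩, hsz⟩, hrows⟩ := hok
  refine ⟨⟨L.base, Nat.le_of_ble_eq_true hbase⟩, rfl, fun i => ?_⟩
  induction i using Nat.strong_induction_on with
  | _ i ihi =>
    intro hi
    have h1 := allFrom_spec hrows i (Nat.zero_le i) (by omega)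
    simp only [Act.rowOK, Bool.and_eq_true, Bool.or_eq_true] at h1
    refine ⟨Nat.eq_of_beq_eq_true h1.1, ?_⟩
    rcases h1.2 with ⟨-, hb⟩ | ⟨⟨hp, hl⟩, ht⟩
    · exact ⟨_, (Nat.eq_of_beq_eq_true hb).symm, mem_orbit_self _⟩
    · have hpi : L.parent i < i := Nat.le_of_ble_eq_true hp
      obtain ⟨-, c, hc, hco⟩ := ihi _ hpi (hpi.trans hi)
      have hs := memNat_spec hl
      refine ⟨g (L.letter i) • c, ?_, ?_⟩
      · rw [hact _ (hfix _ hs).1, hc]
        exact Nat.eq_of_beq_eq_true ht
      · exact mem_orbit_of_mem_orbit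
          (⟨g (L.letter i), Subgroup.subset_closure ⟨_, hs, rfl⟩⟩ :
            Subgroup.closure (g '' {x | x ∈ L.gens})) hco

theorem orbit_eq_level (L : Level) (hact : ∀ x, x < A.K → ∀ c : Fin A.n, ((g x • c : Fin A.n) : ℕ) = A.T x c)
    (hok : A.orbitOK L = true) :
    ∃ b : Fin A.n, (b : ℕ) = L.base ∧
      (∀ c : Fin A.n, c ∈ orbit (Subgroup.closure (g '' {x | x ∈ L.gens})) b ↔ L.memB c = true) ∧
      (orbit (Subgroup.closure (g '' {x | x ∈ L.gens})) b).ncard = L.size := by
  simp only [Act.orbitOK, Bool.and_eq_true] at hok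
  obtain ⟨b, hb, hrow⟩ := tree_mem L hact hok.1
  set M := Subgroup.closure (g '' {x | x ∈ L.gens}) with hM
  have hfix := levelOK_fixes A hok.1
  have hb0 : L.memB b = true := by
    have h1 := hok.1
    simp only [Act.levelOK, Bool.and_eq_true] at h1
    have hsz : 0 < L.size := Nat.le_of_ble_eq_true h1.1.2
    have h0 := allFrom_spec h1.2 0 le_rfl (by omega)
    simp only [Act.rowOK, Bool.and_eq_true, Bool.or_eq_true] at h0
    rcases h0.2 with ⟨-, e⟩ | ⟨⟨e, -⟩, -⟩
    · refine Level.memB_iff.2 ?_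
      have hr := (hrow 0 hsz).1
      rw [hb, ← Nat.eq_of_beq_eq_true e, hr]
      exact ⟨hsz, rfl⟩
    · exact absurd (Nat.le_of_ble_eq_true e) (Nat.not_succ_le_zero _)
  have hgen : ∀ s ∈ L.gens, ∀ c : Fin A.n, L.memB c = true → L.memB (g s • c : Fin A.n) = true := by
    intro s hs c hc
    obtain ⟨hlt, hpt⟩ := Level.memB_iff.1 hc
    have h2 := allList_spec (allFrom_spec hok.2 _ (Nat.zero_le _) (by omega : L.rank c < 0 + L.size)) s hs
    rw [hpt] at h2
    rw [hact s (hfix s hs).1]
    exact h2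
  have hinvar : ∀ m ∈ M, ∀ c : Fin A.n, L.memB c = true → L.memB (m • c : Fin A.n) = true := by
    intro m hm
    induction hm using Subgroup.closure_induction with
    | mem x hx => obtain ⟨s, hs, rfl⟩ := hx; exact hgen s hs
    | one => intro c hc; rwa [one_smul]
    | mul x y _ _ ihx ihy => intro c hc; rw [mul_smul]; exact ihx _ (ihy c hc)
    | inv x _ ihx =>
      intro c hc
      let f : {c : Fin A.n // L.memB c = true} → {c : Fin A.n // L.memB c = true} :=
        fun d => ⟨x • d.1, ihx d.1 d.2⟩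
      have hf : Function.Injective f := fun d e h =>
        Subtype.ext (MulAction.injective x (congrArg Subtype.val h))
      obtain ⟨d, hd⟩ := (Finite.injective_iff_surjective.1 hf) ⟨c, hc⟩
      have e : x • d.1 = c := congrArg Subtype.val hd
      rw [← e, inv_smul_smul]
      exact d.2
  have hiff : ∀ c : Fin A.n, c ∈ orbit M b ↔ L.memB c = true := by
    intro c
    refine ⟨fun hc => ?_, fun hc => ?_⟩
    · obtain ⟨m, rfl⟩ := hc
      exact hinvar m m.2 b hb0
    · obtain ⟨hlt, hpt⟩ := Level.memB_iff.1 hc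
      obtain ⟨-, d, hd, hdo⟩ := hrow _ hlt
      rwa [show c = d from Fin.ext (by rw [hd, hpt])]
  refine ⟨b, hb, hiff, ?_⟩
  rw [← Nat.card_coe_set_eq, ← Nat.card_fin L.size]
  refine (Nat.card_eq_of_bijective (fun i : Fin L.size =>
    (⟨(hrow i i.2).2.choose, (hrow i i.2).2.choose_spec.2⟩ : orbit M b)) ⟨fun i j hij => ?_, fun c => ?_⟩).symm
  · have h1 : L.pt i = L.pt j := by
      rw [← (hrow i i.2).2.choose_spec.1, ← (hrow j j.2).2.choose_spec.1]
      exact congrArg (fun z : orbit M b => ((z : Fin A.n) : ℕ)) hij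
    exact Fin.ext (by rw [← (hrow i i.2).1, ← (hrow j j.2).1, h1])
  · obtain ⟨hlt, hpt⟩ := Level.memB_iff.1 ((hiff c).1 c.2)
    exact ⟨⟨_, hlt⟩, Subtype.ext (Fin.ext ((hrow _ hlt).2.choose_spec.1.trans hpt))⟩

/-- Levels giving all orbits of a subgroup, the first being the fixed point `0`. -/
noncomputable def Act.orbitsOK (A : Act) (Ls : List Level) (gens : List ℕ) : Bool :=
  List.rec (motive := fun _ => Bool) false (fun L _ _ => Nat.beq L.base 0 && Nat.beq L.size 1) Ls &&
    List.rec (motive := fun _ => Bool) true (fun L _ ih => (beqWord L.gens gens && A.orbitOK L) && ih) Ls &&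
    allFrom (fun c => List.rec (motive := fun _ => Bool) false (fun L _ ih => L.memB c || ih) Ls) 0 A.n &&
    Nat.beq (List.rec (motive := fun _ => ℕ) 0 (fun L _ ih => Nat.add L.size ih) Ls) A.n

/-- Point stabilizer and suborbits, from an upper bound on the index. -/
theorem exists_suborbits (hact : ∀ x, x < A.K → ∀ c : Fin A.n, ((g x • c : Fin A.n) : ℕ) = A.T x c)
    (T : Level) (hT : A.levelOK T [] = true) (hT0 : T.base = 0) (hTn : T.size = A.n) (gens : List ℕ)
    (H : Subgroup G) (hH : H = Subgroup.closure (g '' {x | x ∈ gens})) (Ls : List Level)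
    (hLs : A.orbitsOK Ls gens = true) (hidx : H.index ≠ 0 ∧ H.index ≤ A.n) :
    ∃ S : Suborbits G H (Fin A.n) Ls.length, (S.a : ℕ) = 0 ∧ (∀ i, S.size i = (Ls.get i).size) ∧
      ∀ i : Fin Ls.length, (i : ℕ) = 0 → S.rep i = S.a := by
  subst hH
  obtain ⟨a, ha, hrow⟩ := tree_mem T hact hT
  rw [hT0] at ha
  have htrans : ∀ x : Fin A.n, ∃ y : G, y • a = x := by
    have hinj : Function.Injective fun i : Fin T.size => (hrow i i.2).2.choose := fun i j hij => by
      have h1 : T.pt i = T.pt j := by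
        rw [← (hrow i i.2).2.choose_spec.1, ← (hrow j j.2).2.choose_spec.1]
        exact congrArg (fun z : Fin A.n => (z : ℕ)) hij
      exact Fin.ext (by rw [← (hrow i i.2).1, ← (hrow j j.2).1, h1])
    have hbij := hinj.bijective_of_nat_card_le (by rw [Nat.card_fin, Nat.card_fin, hTn])
    intro x
    obtain ⟨i, rfl⟩ := hbij.2 x
    obtain ⟨m, hm⟩ := (hrow i i.2).2.choose_spec.2
    exact ⟨m, hm⟩
  simp only [Act.orbitsOK, Bool.and_eq_true] at hLs
  obtain ⟨⟨⟨hfirst, hall⟩, hcov⟩, hsum⟩ := hLs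
  have hall' : ∀ L ∈ Ls, L.gens = gens ∧ A.orbitOK L = true := by
    clear hfirst hcov hsum
    induction Ls with
    | nil => simp
    | cons L Ls ih =>
      simp only [Bool.and_eq_true] at hall
      intro L' hL'
      rcases List.mem_cons.1 hL' with rfl | hL'
      · exact ⟨beqWord_iff hall.1.1, hall.1.2⟩
      · exact ih hall.2 L' hL'
  have horb : ∀ i : Fin Ls.length, ∃ b : Fin A.n, (b : ℕ) = (Ls.get i).base ∧
      (∀ c : Fin A.n, c ∈ orbit (Subgroup.closure (g '' {x | x ∈ gens})) b ↔ (Ls.get i).memB c = true) ∧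
      (orbit (Subgroup.closure (g '' {x | x ∈ gens})) b).ncard = (Ls.get i).size := fun i => by
    obtain ⟨h1, h2⟩ := hall' _ (Ls.get_mem i)
    have := orbit_eq_level (Ls.get i) hact h2
    rwa [h1] at this
  choose rep hrepb hrepmem hrepcard using horb
  have h0 : ∀ i : Fin Ls.length, (i : ℕ) = 0 → rep i = a ∧ (Ls.get i).size = 1 := by
    intro i hi
    cases Ls with
    | nil => exact i.elim0
    | cons L Ls' =>
      simp only [Bool.and_eq_true] at hfirst
      obtain rfl : i = ⟨0, Nat.succ_pos _⟩ := Fin.ext hi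
      exact ⟨Fin.ext ((hrepb _).trans ((Nat.eq_of_beq_eq_true hfirst.1).trans ha.symm)),
        Nat.eq_of_beq_eq_true hfirst.2⟩
  have hlen : 0 < Ls.length := by
    cases Ls with
    | nil => cases hfirst
    | cons => exact Nat.succ_pos _
  have hle : Subgroup.closure (g '' {x | x ∈ gens}) ≤ stabilizer G a := fun m hm => by
    obtain ⟨e, h1⟩ := h0 ⟨0, hlen⟩ rfl
    obtain ⟨c, hc⟩ := Set.ncard_eq_one.1 ((hrepcard _).trans h1)
    rw [e] at hc
    have h2 : m • a ∈ orbit (Subgroup.closure (g '' {x | x ∈ gens})) a := ⟨⟨m, hm⟩, rfl⟩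
    have h3 : a ∈ orbit (Subgroup.closure (g '' {x | x ∈ gens})) a := mem_orbit_self a
    rw [hc] at h2 h3
    exact h2.trans h3.symm
  have hstab : stabilizer G a = Subgroup.closure (g '' {x | x ∈ gens}) := by
    refine le_antisymm ?_ hle
    have hi : (stabilizer G a).index = A.n := by
      rw [index_stabilizer, show orbit G a = Set.univ from Set.eq_univ_of_forall fun x => htrans x,
        Set.ncard_univ, Nat.card_fin]
    have h1 := Subgroup.relIndex_mul_index hle
    refine Subgroup.relIndex_eq_one.1 ?_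
    rw [hi] at h1
    have h2 := hidx.2
    have h3 := hidx.1
    rw [← h1] at h2 h3
    have hn : 0 < A.n := a.pos
    have := Nat.le_of_mul_le_mul_right (h2.trans_eq (one_mul _).symm) hn
    have := Nat.pos_of_ne_zero (mul_ne_zero_iff.1 h3).1
    omega
  refine ⟨⟨a, hstab, htrans, rep, fun i => (Ls.get i).size, hrepcard, fun x => ?_, ?_⟩, ha, fun _ => rfl,
    fun (i : Fin Ls.length) hi => (h0 i hi).1⟩
  · have h1 := allFrom_spec hcov x (Nat.zero_le _) (by have := x.2; omega)
    have key : ∀ Ls : List Level, (List.rec (motive := fun _ => Bool) false (fun L _ ih => L.memB x || ih) Ls) = true →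
        ∃ i : Fin Ls.length, (Ls.get i).memB x = true := by
      intro l
      induction l with
      | nil => intro h; cases h
      | cons L l ih =>
        intro h
        simp only [Bool.or_eq_true] at h
        rcases h with h | h
        · exact ⟨⟨0, Nat.succ_pos _⟩, h⟩
        · obtain ⟨i, hi⟩ := ih h; exact ⟨i.succ, hi⟩
    obtain ⟨i, hi⟩ := key Ls h1
    exact ⟨i, (hrepmem i x).2 hi⟩
  · rw [Nat.card_fin]
    refine Eq.trans ?_ (Nat.eq_of_beq_eq_true hsum)
    clear * -
    induction Ls with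
    | nil => rfl
    | cons L l ih =>
      show ∑ i : Fin (l.length + 1), _ = L.size + _
      rw [Fin.sum_univ_succ, ← ih]
      rfl

end CfsgLib.Spor.TC
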