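/-
Orders and simplicity of presented groups, one step along a chain of subgroups at a time.
-/
import Cfsg.Agent.Lib.Spor.TC.Orbit
import Mathlib.Algebra.Group.Subgroup.Lattice
import Mathlib.Data.List.GetD

namespace CfsgLib.Spor.TC

open scoped commutatorElement

variable {G : Type*} [Group G]

/-- The generators named by a list of letters. -/
def subGen (g : ℕ → G) (k : ℕ) (emb : List ℕ) (x : ℕ) : G := g (emb.getD x k)

theorem sat_sub {k : ℕ} {rels : List PowRel} {g : ℕ → G} (h : Sat k rels g) (emb : List ℕ)
    {rels' : List PowRel} (hrel : ∀ r ∈ rels', (r.1.map fun x => emb.getD x k, r.2) ∈ rels) :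
    Sat emb.length rels' (subGen g k emb) := by
  refine ⟨fun x => h.sq _, fun x hx => ?_, fun r hr => ?_⟩
  · rw [subGen, List.getD_eq_default _ _ hx]
    exact h.out k le_rfl
  · have := h.rel _ (hrel r hr)
    rw [show ev (subGen g k emb) r.1 = ev g (r.1.map fun x => emb.getD x k) by
      unfold ev; rw [List.map_map]; rfl]
    exact this

theorem image_subGen (g : ℕ → G) (k : ℕ) (emb : List ℕ) :
    subGen g k emb '' Set.Iio emb.length = g '' {x | x ∈ emb} := by
  ext y
  constructor
  · rintro ⟨i, hi, rfl⟩
    exact ⟨emb.getD i k, by rw [List.getD_eq_getElem _ _ hi]; exact List.getElem_mem hi, rfl⟩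
  · rintro ⟨x, hx, rfl⟩
    obtain ⟨i, hi, rfl⟩ := List.mem_iff_getElem.1 hx
    exact ⟨i, hi, by rw [subGen, List.getD_eq_getElem _ _ hi]⟩

variable {k n : ℕ} {rels rels' extra : List PowRel} {emb : List ℕ}

/-- The subgroup of some of the generators. -/
abbrev presSub (k : ℕ) (rels : List PowRel) (emb : List ℕ) : Subgroup (Pres k rels) :=
  Subgroup.closure (presGen k rels '' {x | x ∈ emb})

/-- The map onto the subgroup of some of the generators. -/
def subHom (emb : List ℕ) (hrel : ∀ r ∈ rels', (r.1.map fun x => emb.getD x k, r.2) ∈ rels) :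
    Pres emb.length rels' →* Pres k rels :=
  presHom (sat_sub (sat_presGen k rels) emb hrel)

theorem range_subHom (hrel : ∀ r ∈ rels', (r.1.map fun x => emb.getD x k, r.2) ∈ rels) :
    (subHom emb hrel).range = presSub k rels emb := by
  rw [subHom, range_presHom, image_subGen]

/-- A checked enumeration of the cosets of the subgroup of some generators. -/
structure CosetCert (k : ℕ) (rels : List PowRel) (emb : List ℕ) (n : ℕ) where
  C : Cert
  nE : ℕ
  steps : C.StepsOK 0 nE
  rows : C.RowsOK nE n 0 n
  row_zero : C.rowNode 0 = 0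
  pos : 0 < n
  hk : C.k = k
  hrels : C.rels = relWords rels
  hsubs : C.subs = emb.map fun x => [x]

theorem CosetCert.index_le (c : CosetCert k rels emb n) :
    (presSub k rels emb).index ≠ 0 ∧ (presSub k rels emb).index ≤ n := by
  refine Cert.index_le_pres c.steps c.rows c.row_zero c.pos c.hk c.hrels _ fun w hw => ?_
  rw [c.hsubs] at hw
  obtain ⟨x, hx, rfl⟩ := List.mem_map.1 hw
  rw [show ev (presGen k rels) [x] = presGen k rels x by simp [ev]]
  exact Subgroup.subset_closure ⟨x, hx, rfl⟩

/-- The order is at most the index times a bound for the subgroup. -/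
theorem CosetCert.card_le (c : CosetCert k rels emb n) {l m : ℕ} (hl : emb.length = l)
    (hrel : ∀ r ∈ rels', (r.1.map fun x => emb.getD x k, r.2) ∈ rels)
    (hsub : Nat.card (Pres l rels') ≠ 0 ∧ Nat.card (Pres l rels') ≤ m) :
    Nat.card (Pres k rels) ≠ 0 ∧ Nat.card (Pres k rels) ≤ n * m := by
  subst hl
  haveI := Nat.finite_of_card_ne_zero hsub.1
  have h1 : Nat.card (presSub k rels emb) ≤ m := by
    rw [← range_subHom hrel]
    exact (Nat.card_le_card_of_surjective _ (subHom emb hrel).rangeRestrict_surjective).trans hsub.2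
  have h2 : Nat.card (presSub k rels emb) ≠ 0 := by
    rw [← range_subHom hrel]
    haveI := Finite.of_surjective _ (subHom emb hrel).rangeRestrict_surjective
    exact Nat.card_pos.ne'
  rw [← Subgroup.index_mul_card (presSub k rels emb)]
  exact ⟨mul_ne_zero c.index_le.1 h2, Nat.mul_le_mul c.index_le.2 h1⟩

/-- An enumeration of the elements. -/
theorem CosetCert.card_le_bot (c : CosetCert k rels [] n) :
    Nat.card (Pres k rels) ≠ 0 ∧ Nat.card (Pres k rels) ≤ n := by
  have h : presSub k rels [] = ⊥ := by simp [presSub]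
  have := c.index_le
  rw [h, Subgroup.index_bot] at this
  exact this

/-- A normal subgroup containing words that collapse the group is everything. -/
theorem eq_top_of_collapse (c : CosetCert k (rels ++ extra) [] 1) (N : Subgroup (Pres k rels))
    (hN : N.Normal) (hextra : ∀ r ∈ extra, ev (presGen k rels) r.1 ^ r.2 ∈ N) : N = ⊤ := by
  haveI := hN
  have hs : Sat k (rels ++ extra) fun x => QuotientGroup.mk' N (presGen k rels x) := by
    refine ⟨fun x => ?_, fun x hx => ?_, fun r hr => ?_⟩
    · rw [← map_mul, (sat_presGen k rels).sq, map_one]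
    · rw [(sat_presGen k rels).out x hx, map_one]
    · rw [← map_ev, ← map_pow]
      rcases List.mem_append.1 hr with h | h
      · rw [(sat_presGen k rels).rel r h, map_one]
      · exact (QuotientGroup.eq_one_iff _).2 (hextra r h)
  have hsurj : Function.Surjective (presHom hs) := presHom_surjective hs (by
    rw [show ((fun x => QuotientGroup.mk' N (presGen k rels x)) '' Set.Iio k) =
      QuotientGroup.mk' N '' (presGen k rels '' Set.Iio k) by rw [Set.image_image],
      ← MonoidHom.map_closure, closure_presGen, Subgroup.map_top_of_surjective _ (QuotientGroup.mk'_surjective N)])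
  obtain ⟨h1, h2⟩ := c.card_le_bot
  haveI := Nat.finite_of_card_ne_zero h1
  have h3 := (Nat.card_le_card_of_surjective _ hsurj).trans h2
  refine Subgroup.index_eq_one.1 (le_antisymm h3 ?_)
  haveI := Finite.of_surjective _ hsurj
  exact Nat.card_pos

/-- The relators making the generators commute. -/
def commRels (k : ℕ) : List PowRel :=
  (List.range k).flatMap fun i => (List.range k).map fun j => ([i, j], 2)

theorem commutator_eq_top_of_collapse (c : CosetCert k (rels ++ commRels k) [] 1) :
    commutator (Pres k rels) = ⊤ := by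
  refine eq_top_of_collapse c _ inferInstance fun r hr => ?_
  simp only [commRels, List.mem_flatMap, List.mem_map] at hr
  obtain ⟨i, -, j, -, rfl⟩ := hr
  have e : ev (presGen k rels) [i, j] ^ 2 =
      ⁅presGen k rels i, presGen k rels j⁆ := by
    simp [ev, commutatorElement_def, pow_two, mul_assoc,
      inv_eq_of_mul_eq_one_right ((sat_presGen k rels).sq _)]
  rw [e]
  exact Subgroup.commutator_mem_commutator (Subgroup.mem_top _) (Subgroup.mem_top _)

variable (A : Act)

/-- Two words act equally. -/
noncomputable def Act.sameOK (w w' : List ℕ) : Bool :=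
  allBelow A.k w && allBelow A.k w' && allFrom (fun c => Nat.beq (A.wact w c) (A.wact w' c)) 0 A.n

variable {A}

theorem Act.Valid.rho_eq (h : A.Valid rels) {w w' : List ℕ} (hok : A.sameOK w w' = true) :
    h.rho (ev (presGen A.k rels) w) = h.rho (ev (presGen A.k rels) w') := by
  simp only [Act.sameOK, Bool.and_eq_true] at hok
  have key : ∀ u, (∀ x ∈ u, x < A.k) → ∀ c : Fin A.n, (h.rho (ev (presGen A.k rels) u) c : ℕ) = A.wact u c := by
    intro u hu c
    rw [map_ev, ev_congr (g' := h.perm) fun x hx => ?_, h.wact_eq fun x hx => lt_of_lt_of_le (hu x hx) (Nat.le_add_right _ _)]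
    rw [h.perm_of_lt (hu x hx)]
    exact presHom_gen h.sat x
  ext c
  rw [key w (allBelow_spec hok.1.1), key w' (allBelow_spec hok.1.2)]
  exact Nat.eq_of_beq_eq_true (allFrom_spec hok.2 c (Nat.zero_le _) (by have := c.2; omega))

/-- The action of the presented group. -/
abbrev Act.Valid.action (h : A.Valid rels) : MulAction (Pres A.k rels) (Fin A.n) :=
  MulAction.compHom _ h.rho

theorem Act.Valid.action_apply (h : A.Valid rels) {x : ℕ} (hx : x < A.K) (c : Fin A.n) :
    letI := h.action
    ((A.letters rels x • c : Fin A.n) : ℕ) = A.T x c := by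
  show ((h.rho (A.letters rels x)) c : ℕ) = _
  rw [h.rho_letters, h.perm_apply hx]

theorem Act.letters_of_lt {x : ℕ} (hx : x < A.k) : A.letters rels x = presGen A.k rels x :=
  extend_of_lt _ _ hx

theorem image_letters (hemb : ∀ x ∈ emb, x < A.k) :
    A.letters rels '' {x | x ∈ emb} = presGen A.k rels '' {x | x ∈ emb} :=
  Set.image_congr fun x hx => Act.letters_of_lt (hemb x hx)

/-- What is checked about an action on the cosets of the subgroup of some generators. -/
structure Act.CosetData (A : Act) (rels : List PowRel) (emb : List ℕ) where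
  valid : A.Valid rels
  emb_lt : ∀ x ∈ emb, x < A.k
  cert : CosetCert A.k rels emb A.n
  top : Level
  top_ok : A.levelOK top [] = true
  top_base : top.base = 0
  top_size : top.size = A.n
  parts : List Level
  parts_ok : A.orbitsOK parts emb = true

theorem Act.CosetData.exists_suborbits (D : A.CosetData rels emb) :
    letI := D.valid.action
    ∃ S : Suborbits (Pres A.k rels) (presSub A.k rels emb) (Fin A.n) D.parts.length, (S.a : ℕ) = 0 ∧
      (∀ i, S.size i = (D.parts.get i).size) ∧ ∀ i : Fin D.parts.length, (i : ℕ) = 0 → S.rep i = S.a := by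
  letI := D.valid.action
  exact CfsgLib.Spor.TC.exists_suborbits (g := A.letters rels) (fun x hx c => D.valid.action_apply hx c) D.top
    D.top_ok D.top_base D.top_size emb _ (by rw [image_letters D.emb_lt]) D.parts D.parts_ok D.cert.index_le

theorem Act.CosetData.index_eq (D : A.CosetData rels emb) : (presSub A.k rels emb).index = A.n := by
  letI := D.valid.action
  obtain ⟨S, -⟩ := D.exists_suborbits
  rw [S.index_eq, Nat.card_fin]

/-- A simple subgroup gives the order. -/
theorem Act.CosetData.card_eq (D : A.CosetData rels emb) {l m : ℕ} (hl : emb.length = l)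
    (hrel : ∀ r ∈ rels', (r.1.map fun x => emb.getD x A.k, r.2) ∈ rels)
    [IsSimpleGroup (Pres l rels')] (hcard : Nat.card (Pres l rels') = m)
    (hmove : ∃ x ∈ emb, ∃ c, c < A.n ∧ A.T x c ≠ c) :
    IsSimpleGroup (presSub A.k rels emb) ∧ Nat.card (Pres A.k rels) = A.n * m := by
  subst hl
  obtain ⟨x, hx, c, hc, hxc⟩ := hmove
  letI := D.valid.action
  have hne : ∀ y, y = presGen A.k rels x → y ≠ 1 := by
    rintro _ rfl h1
    refine hxc ?_
    have h2 := D.valid.action_apply (lt_of_lt_of_le (D.emb_lt x hx) (Nat.le_add_right _ _)) ⟨c, hc⟩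
    rw [Act.letters_of_lt (D.emb_lt x hx), h1, one_smul] at h2
    exact h2.symm
  let f := subHom (k := A.k) (rels := rels) emb hrel
  have hrange : f.range = presSub A.k rels emb := range_subHom hrel
  have hinj : Function.Injective f := by
    rcases IsSimpleGroup.eq_bot_or_eq_top_of_normal f.ker inferInstance with h | h
    · exact (MonoidHom.ker_eq_bot_iff f).1 h
    · exfalso
      obtain ⟨y, hy⟩ : presGen A.k rels x ∈ f.range := hrange ▸ Subgroup.subset_closure ⟨x, hx, rfl⟩
      exact hne _ rfl (hy.symm.trans (MonoidHom.mem_ker.1 (h ▸ Subgroup.mem_top y)))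
  have e : Pres emb.length rels' ≃* presSub A.k rels emb :=
    (MonoidHom.ofInjective hinj).trans (MulEquiv.subgroupCongr hrange)
  refine ⟨e.symm.isSimpleGroup, ?_⟩
  rw [← Subgroup.index_mul_card (presSub A.k rels emb), D.index_eq, ← Nat.card_congr e.toEquiv, hcard]

/-- Simplicity from a simple subgroup. -/
theorem Act.CosetData.isSimpleGroup (D : A.CosetData rels emb) {l m : ℕ} (hl : emb.length = l)
    (hrel : ∀ r ∈ rels', (r.1.map fun x => emb.getD x A.k, r.2) ∈ rels)
    [IsSimpleGroup (Pres l rels')] (hcard : Nat.card (Pres l rels') = m) (hm : m ≠ 0)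
    (hmove : ∃ x ∈ emb, ∃ c, c < A.n ∧ A.T x c ≠ c) {r : ℕ} (hr : D.parts.length = r)
    {sizes : List ℕ} (hsizes : D.parts.map Level.size = sizes)
    (hsum : NoBlockSum (fun i : Fin sizes.length => sizes.get i) A.n) (hreg : NoRegular r A.n) :
    IsSimpleGroup (Pres A.k rels) := by
  letI := D.valid.action
  obtain ⟨hsimple, hG⟩ := D.card_eq hl hrel hcard hmove
  haveI := hsimple
  obtain ⟨x, hx, c, hc, hxc⟩ := hmove
  haveI : Finite (Pres A.k rels) := Nat.finite_of_card_ne_zero (by
    rw [hG]; exact mul_ne_zero (Nat.ne_of_gt (lt_of_le_of_lt (Nat.zero_le c) hc)) hm)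
  obtain ⟨S, -, hsize, hrep⟩ := D.exists_suborbits
  have hpos : 0 < D.parts.length := by
    obtain ⟨i, -⟩ := S.cover S.a
    exact Nat.lt_of_le_of_lt (Nat.zero_le _) i.2
  refine S.isSimpleGroup (i₀ := ⟨0, hpos⟩) rfl (hrep _ rfl) ?_ ⟨_, Subgroup.subset_closure ⟨x, hx, rfl⟩,
    ⟨c, hc⟩, fun h => hxc ?_⟩ (by rw [Nat.card_fin, hr]; exact hreg)
  · rw [Nat.card_fin, show S.size = fun i => (D.parts.get i).size from funext hsize]
    subst hsizes
    intro T h0 hd
    have hlen : (D.parts.map Level.size).length = D.parts.length := List.length_map _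
    have := hsum (T.map (finCongr hlen.symm).toEmbedding) (fun i hi => Finset.mem_map.2
      ⟨finCongr hlen i, h0 _ hi, by simp⟩) (by rw [Finset.sum_map]; simpa using hd)
    rcases this with h | h
    · exact Or.inl fun i hi => h _ (Finset.mem_map_of_mem _ hi)
    · refine Or.inr (Finset.eq_univ_of_forall fun i => ?_)
      have hi := h ▸ Finset.mem_univ (finCongr hlen.symm i)
      obtain ⟨j, hj, e⟩ := Finset.mem_map.1 hi
      exact (finCongr hlen.symm).injective e ▸ hj
  · have h2 := D.valid.action_apply (lt_of_lt_of_le (D.emb_lt x hx) (Nat.le_add_right _ _)) ⟨c, hc⟩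
    rw [Act.letters_of_lt (D.emb_lt x hx), h] at h2
    exact h2.symm

/-- Simplicity by Iwasawa's criterion, for a group whose order is shown by levels. -/
theorem Act.CosetData.isSimpleGroup_of_abelian (D : A.CosetData rels emb) {m : ℕ} (hcard : Nat.card (Pres A.k rels) ≠ 0 ∧ Nat.card (Pres A.k rels) ≤ m)
    {Ls : List Level} (hLs : A.levelsOK Ls [] = true) (hm : levelsProd Ls = m) (hm1 : 1 < m) {r : ℕ}
    (hr : D.parts.length = r) {sizes : List ℕ} (hsizes : D.parts.map Level.size = sizes)
    (hsum : NoBlockSum (fun i : Fin sizes.length => sizes.get i) A.n)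
    (hperf : CosetCert A.k (rels ++ commRels A.k) [] 1) (zs : List (List ℕ)) (ext : List PowRel)
    (hgen : CosetCert A.k (rels ++ ext) [] 1) (hext : ∀ p ∈ ext, p.1 ∈ zs)
    (hcomm : ∀ z ∈ zs, ∀ z' ∈ zs, A.sameOK (z ++ z') (z' ++ z) = true)
    (hconj : ∀ s ∈ emb, ∀ z ∈ zs, ∃ t : List ℕ, A.sameOK ([s] ++ z ++ [s]) (t.flatMap fun i => zs.getD i []) = true) :
    IsSimpleGroup (Pres A.k rels) ∧ Nat.card (Pres A.k rels) = m := by
  letI := D.valid.action
  have hge := card_pres_ge A D.valid hLs hcard.1
  have hG : Nat.card (Pres A.k rels) = m := le_antisymm hcard.2 (hm ▸ hge)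
  haveI : Finite (Pres A.k rels) := Nat.finite_of_card_ne_zero hcard.1
  haveI : Nontrivial (Pres A.k rels) := Finite.one_lt_card_iff_nontrivial.1 (hG ▸ hm1)
  have hrho : Function.Injective D.valid.rho := by
    have h2 : levelsProd Ls ≤ Nat.card D.valid.rho.range :=
      card_ge_of_levels A D.valid Ls [] _ hLs fun _ _ y _ _ => ⟨_, D.valid.rho_letters y⟩
    have h3 : Function.Bijective D.valid.rho.rangeRestrict :=
      D.valid.rho.rangeRestrict_surjective.bijective_of_nat_card_le (by rw [hG, ← hm]; exact h2)
    exact fun u v e => h3.1 (Subtype.ext e)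
  refine ⟨?_, hG⟩
  obtain ⟨S, -, hsize, hrep⟩ := D.exists_suborbits
  have hpos : 0 < D.parts.length := by
    obtain ⟨i, -⟩ := S.cover S.a
    exact Nat.lt_of_le_of_lt (Nat.zero_le _) i.2
  let U : Subgroup (Pres A.k rels) := Subgroup.closure (ev (presGen A.k rels) '' {z | z ∈ zs})
  refine S.isSimpleGroup_of_abelian (i₀ := ⟨0, hpos⟩) rfl (hrep _ rfl) ?_ (fun u hu => hrho ?_)
    (commutator_eq_top_of_collapse hperf) U ?_ ?_ fun K hK hUK => ?_
  · rw [Nat.card_fin, show S.size = fun i => (D.parts.get i).size from funext hsize]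
    subst hsizes
    intro T h0 hd
    have hlen : (D.parts.map Level.size).length = D.parts.length := List.length_map _
    have := hsum (T.map (finCongr hlen.symm).toEmbedding) (fun i hi => Finset.mem_map.2
      ⟨finCongr hlen i, h0 _ hi, by simp⟩) (by rw [Finset.sum_map]; simpa using hd)
    rcases this with h | h
    · exact Or.inl fun i hi => h _ (Finset.mem_map_of_mem _ hi)
    · refine Or.inr (Finset.eq_univ_of_forall fun i => ?_)
      have hi := h ▸ Finset.mem_univ (finCongr hlen.symm i)
      obtain ⟨j, hj, e⟩ := Finset.mem_map.1 hi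
      exact (finCongr hlen.symm).injective e ▸ hj
  · rw [map_one]
    exact Equiv.ext hu
  · intro a ha b hb
    induction ha, hb using Subgroup.closure_induction₂ with
    | mem x y hx hy =>
      obtain ⟨z, hz, rfl⟩ := hx
      obtain ⟨z', hz', rfl⟩ := hy
      refine hrho ?_
      rw [← ev_append, ← ev_append]
      exact D.valid.rho_eq (hcomm z hz z' hz')
    | one_left => simp
    | one_right => simp
    | mul_left x y z _ _ _ h1 h2 => exact (Commute.mul_left h1 h2 : Commute (x * y) z)
    | mul_right x y z _ _ _ h1 h2 => exact (Commute.mul_right h1 h2 : Commute z (x * y))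
    | inv_left x y _ _ h1 => exact Commute.inv_left (a := x) h1
    | inv_right x y _ _ h1 => exact Commute.inv_right (b := y) h1
  · intro h hh
    have hs : ∀ s ∈ emb, ∀ a ∈ U, presGen A.k rels s * a * (presGen A.k rels s)⁻¹ ∈ U := by
      intro s hs a ha
      induction ha using Subgroup.closure_induction with
      | mem x hx =>
        obtain ⟨z, hz, rfl⟩ := hx
        obtain ⟨t, ht⟩ := hconj s hs z hz
        have e : presGen A.k rels s * ev (presGen A.k rels) z * (presGen A.k rels s)⁻¹ =
            ev (presGen A.k rels) (t.flatMap fun i => zs.getD i []) := by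
          refine hrho ?_
          rw [← D.valid.rho_eq ht, ev_append, ev_append]
          simp [ev, inv_eq_of_mul_eq_one_right ((sat_presGen A.k rels).sq s)]
        rw [e]
        clear e ht
        induction t with
        | nil => exact U.one_mem
        | cons i t ih =>
          rw [List.flatMap_cons, ev_append]
          refine U.mul_mem ?_ ih
          rcases lt_or_ge i zs.length with hi | hi
          · rw [List.getD_eq_getElem _ _ hi]
            exact Subgroup.subset_closure ⟨_, List.getElem_mem hi, rfl⟩
          · rw [List.getD_eq_default _ _ hi]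
            exact U.one_mem
      | one => simp
      | mul x y _ _ hx hy => simpa [mul_assoc] using U.mul_mem hx hy
      | inv x _ hx => simpa [mul_assoc] using U.inv_mem hx
    induction hh using Subgroup.closure_induction'' with
    | mem x hx => obtain ⟨s, hs', rfl⟩ := hx; exact hs s hs'
    | inv_mem x hx =>
      obtain ⟨s, hs', rfl⟩ := hx
      rw [inv_eq_of_mul_eq_one_right ((sat_presGen A.k rels).sq s)]
      exact hs s hs'
    | one => intro a ha; simpa using ha
    | mul u v _ _ hu hv => intro a ha; simpa [mul_assoc] using hu _ (hv a ha)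
  · refine eq_top_of_collapse hgen K hK fun p hp => K.pow_mem (hUK ?_) _
    exact Subgroup.subset_closure ⟨_, hext p hp, rfl⟩

/-- Levels inside a subgroup of generators bound its order from below. -/
theorem card_presSub_ge {A : Act} (h : A.Valid rels) (hemb : ∀ x ∈ emb, x < A.k)
    (hfin : Nat.card (Pres A.k rels) ≠ 0) {Ls : List Level} (hLs : A.levelsOK Ls [] = true)
    (hgens : ∀ L ∈ Ls, ∀ x ∈ L.gens, A.letters rels x ∈ presSub A.k rels emb) :
    levelsProd Ls ≤ Nat.card (presSub A.k rels emb) := by
  haveI : Finite (Pres A.k rels) := Nat.finite_of_card_ne_zero hfin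
  refine (card_ge_of_levels A h Ls [] ((presSub A.k rels emb).map h.rho) hLs fun L hL x hx _ =>
    ⟨_, hgens L hL x hx, h.rho_letters x⟩).trans ?_
  exact Nat.card_le_card_of_surjective _ (h.rho.subgroupMap_surjective _)

/-- A letter defined from letters of the subgroup lies in it. -/
theorem letters_mem {A : Act} (hemb : ∀ x ∈ emb, x < A.k) (rels : List PowRel) (closed : List ℕ)
    (hlt : ∀ x ∈ closed, A.k ≤ x) (hdefs : defsBelow A.defs A.k = true)
    (hclosed : ∀ x ∈ closed, ∃ w, A.defs[x - A.k]? = some w ∧ ∀ y ∈ w, y ∈ emb ∨ (y ∈ closed ∧ y < x)) :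
    ∀ x, x ∈ emb ∨ x ∈ closed → A.letters rels x ∈ presSub A.k rels emb := by
  intro x
  induction x using Nat.strong_induction_on with
  | _ x ih =>
    intro hx
    by_cases he : x ∈ emb
    · rw [Act.letters_of_lt (hemb x he)]
      exact Subgroup.subset_closure ⟨x, he, rfl⟩
    · have hc := hx.resolve_left he
      obtain ⟨w, hw, hy⟩ := hclosed x hc
      have h1 := extend_def A.defs (presGen A.k rels) hdefs (x - A.k) w hw
      rw [Nat.add_sub_cancel' (hlt x hc)] at h1
      rw [Act.letters, h1]
      refine ev_mem fun y hyw => ?_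
      rcases hy y hyw with h2 | ⟨h2, h3⟩
      · exact ih y (lt_of_lt_of_le (hemb y h2) (hlt x hc)) (Or.inl h2)
      · exact ih y h3 (Or.inr h2)

end CfsgLib.Spor.TC
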