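import Cfsg.Agent.Lib.Spor.TC.Steps
/-!
The checker of coset derivations with digits in base `2 ^ 24`, for certificates of more equations.
-/

namespace CfsgLib.Spor.TC

/-- Digits in base `2 ^ 24`, stored shifted by one. -/
noncomputable def digitsWide (n : ℕ) : List ℕ :=
  Nat.rec (motive := fun _ => ℕ → List ℕ) (fun _ => [])
    (fun _ ih n => Bool.rec (Nat.sub (Nat.land n 16777215) 1 :: ih (Nat.shiftRight n 24)) [] (Nat.beq n 0))
    4096 n

variable (C : Cert)

/-- Equation `j` follows from its code. -/
noncomputable def Cert.stepWideOK (j code : ℕ) : Bool :=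
  match digitsWide code with
  | [] => false
  | tag :: rest =>
    bif Nat.beq tag 0 then
      Nat.beq (C.parent (eDst (C.edge j))) (eSrc (C.edge j)) &&
        Nat.blt (eSrc (C.edge j)) (eDst (C.edge j)) && Nat.beq (C.letter (eDst (C.edge j))) (eLab (C.edge j))
    else bif Nat.beq tag 1 then
      match rest with
      | r :: c :: l₁ :: ps => C.closeOK C.rels j r c l₁ ps
      | _ => false
    else bif Nat.beq tag 2 then
      match rest with
      | r :: l₁ :: ps => C.closeOK C.subs j r 0 l₁ ps
      | _ => false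
    else
      match C.walk j rest rest.length (eSrc (C.edge j)) with
      | some (L, v₁, _) => Nat.beq v₁ (eDst (C.edge j)) && beqWord (reduceWord L) (labWord C.k (eLab (C.edge j)))
      | none => false

/-- The steps `a, a+1, …`, finishing at `b`. -/
noncomputable def Cert.stepsWideFrom (a b : ℕ) (codes : List ℕ) : Bool :=
  List.rec (motive := fun _ => ℕ → Bool) (fun a => Nat.beq a b)
    (fun c _ ih a => C.stepWideOK a c && ih (Nat.add a 1)) codes a

/-- The steps `a, …, b-1` are justified. -/
def Cert.StepsWideOK (a b : ℕ) : Prop := ∀ j, a ≤ j → j < b → ∃ code, C.stepWideOK j code = true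


theorem Cert.StepsWideOK.of_check : ∀ {codes : List ℕ} {a b : ℕ}, C.stepsWideFrom a b codes = true → C.StepsWideOK a b := by
  intro codes
  induction codes with
  | nil => intro a b h j h1 h2; have := Nat.eq_of_beq_eq_true (h : Nat.beq a b = true); omega
  | cons c cs ih =>
    intro a b h j h1 h2
    change (C.stepWideOK a c && C.stepsWideFrom (Nat.add a 1) b cs) = true at h
    simp only [Bool.and_eq_true] at h
    by_cases hj : j = a
    · exact ⟨c, hj ▸ h.1⟩
    · exact ih h.2 j (show a + 1 ≤ j by omega) h2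

theorem Cert.StepsWideOK.append {a b c : ℕ} (h1 : C.StepsWideOK a b) (h2 : C.StepsWideOK b c) : C.StepsWideOK a c :=
  fun j ha hc => if h : j < b then h1 j ha h else h2 j (by omega) hc

variable {G : Type*} [Group G]

section

variable {g : ℕ → G} (hg : ∀ x, g x * g x = 1) (hk : g C.k = 1) (H : Subgroup G)

include hg hk in
theorem Cert.holds_of_stepsWide {n : ℕ} (hR : ∀ w ∈ C.rels, ev g w = 1) (hS : ∀ w ∈ C.subs, ev g w ∈ H)
    (hok : C.StepsWideOK 0 n) : ∀ j, j < n → C.Holds g H j := by
  intro j
  induction j using Nat.strong_induction_on with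
  | _ j ih =>
    intro hjn
    have hj : ∀ i, i < j → C.Holds g H i := fun i hi => ih i hi (hi.trans hjn)
    obtain ⟨code, h⟩ := hok j (Nat.zero_le j) hjn
    unfold Cert.stepWideOK at h
    split at h
    · cases h
    next tag rest _ =>
    revert h
    rcases Nat.beq tag 0 <;> intro h <;> simp only [cond_true, cond_false] at h
    swap
    · simp only [Bool.and_eq_true] at h
      have hlt : eSrc (C.edge j) < eDst (C.edge j) := Nat.le_of_ble_eq_true h.1.2
      have hp := Nat.eq_of_beq_eq_true h.1.1
      show _ * _ * _ ∈ H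
      conv => enter [2, 2, 1]; rw [Cert.word, dif_pos (by rw [hp]; exact hlt), hp, Nat.eq_of_beq_eq_true h.2]
      simp
    revert h
    rcases Nat.beq tag 1 <;> intro h <;> simp only [cond_true, cond_false] at h
    swap
    · split at h
      · refine C.closeOK_sound hg hk H hj (fun w hw => ?_) h
        rw [hR w hw, mul_one, mul_inv_cancel]
        exact H.one_mem
      · cases h
    revert h
    rcases Nat.beq tag 2 <;> intro h <;> simp only [cond_true, cond_false] at h
    swap
    · split at h
      · refine C.closeOK_sound hg hk H hj (fun w hw => ?_) h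
        rw [C.word_zero, one_mul, inv_one, mul_one]
        exact hS w hw
      · cases h
    split at h
    · next L v₁ rest' hw =>
      simp only [Bool.and_eq_true] at h
      have h1 := C.walk_sound hg hk H hj _ _ _ _ _ _ hw
      rw [Nat.eq_of_beq_eq_true h.1, ← ev_reduceWord hg, beqWord_iff h.2, ev_labWord C hk] at h1
      exact h1
    · cases h

end

/-- A checked certificate bounds the index. -/
theorem Cert.index_le_wide {nE n : ℕ} (hsteps : C.StepsWideOK 0 nE) (hrows : C.RowsOK nE n 0 n)
    (hzero : C.rowNode 0 = 0) (hn : 0 < n) (g : ℕ → G) (hg : ∀ x, g x * g x = 1) (hk : g C.k = 1)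
    (hgen : Subgroup.closure (g '' Set.Iio C.k) = ⊤) (hrels : ∀ r ∈ C.rels, ev g r = 1) (H : Subgroup G)
    (hsubs : ∀ r ∈ C.subs, ev g r ∈ H) : H.index ≠ 0 ∧ H.index ≤ n := by
  have hE := C.holds_of_stepsWide hg hk H hrels hsubs hsteps
  set w := C.word g with hw
  let R : Set ℕ := {c | ∃ i, i < n ∧ C.rowNode i = c}
  have hstep : ∀ x ∈ Set.Iio C.k, ∀ c ∈ R, ∃ d ∈ R, w c * g x * (w d)⁻¹ ∈ H := by
    rintro x hx c ⟨i, hi, rfl⟩
    obtain ⟨code, hc⟩ := hrows i (Nat.zero_le i) hi
    obtain ⟨p, i', hp, hi', hs, hl, hd⟩ := C.rowAux_spec hc x (Nat.zero_le x) hx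
    refine ⟨C.pDst p, ⟨i', hi', hd⟩, ?_⟩
    have h3 := C.holds_premise hg H (hE _ hp)
    rwa [hs, hl] at h3
  have hall : ∀ y : G, ∀ c ∈ R, ∃ d ∈ R, w c * y * (w d)⁻¹ ∈ H := by
    intro y
    have hy : y ∈ Subgroup.closure (g '' Set.Iio C.k) := hgen ▸ Subgroup.mem_top y
    induction hy using Subgroup.closure_induction'' with
    | mem z hz => obtain ⟨x, hx, rfl⟩ := hz; exact hstep x hx
    | inv_mem z hz =>
      obtain ⟨x, hx, rfl⟩ := hz
      rw [inv_eq_of_mul_eq_one_right (hg x)]; exact hstep x hx
    | one => exact fun c hc => ⟨c, hc, by simp⟩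
    | mul u v _ _ hu hv =>
      intro c hc
      obtain ⟨d, hd, h1⟩ := hu c hc
      obtain ⟨e, he, h2⟩ := hv d hd
      refine ⟨e, he, ?_⟩
      convert H.mul_mem h1 h2 using 1
      group
  let f : Fin n → G ⧸ H := fun i => QuotientGroup.mk (w (C.rowNode i))⁻¹
  have hf : Function.Surjective f := by
    intro q
    induction q using QuotientGroup.induction_on with
    | H y =>
      obtain ⟨d, ⟨i, hi, rfl⟩, h⟩ := hall y⁻¹ 0 ⟨0, hn, hzero⟩
      refine ⟨⟨i, hi⟩, ?_⟩
      show QuotientGroup.mk (w (C.rowNode i))⁻¹ = QuotientGroup.mk y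
      rw [QuotientGroup.eq, inv_inv]
      rw [show w 0 = 1 from C.word_zero g, one_mul] at h
      have := H.inv_mem h
      rwa [mul_inv_rev, inv_inv, inv_inv] at this
  haveI : Finite (G ⧸ H) := Finite.of_surjective f hf
  refine ⟨?_, ?_⟩
  · exact Nat.card_pos.ne'
  · calc H.index = Nat.card (G ⧸ H) := rfl
      _ ≤ Nat.card (Fin n) := Nat.card_le_card_of_surjective f hf
      _ = n := Nat.card_fin n

variable {C}

/-- A wide certificate for the index of a subgroup of some generators. -/
theorem Cert.presSub_index_le_wide {k : ℕ} {rels : List PowRel} {emb : List ℕ} {nE n : ℕ}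
    (hsteps : C.StepsWideOK 0 nE) (hrows : C.RowsOK nE n 0 n) (hzero : C.rowNode 0 = 0) (hn : 0 < n)
    (hk : C.k = k) (hrels : C.rels = relWords rels) (hsubs : C.subs = emb.map fun x => [x]) :
    (presSub k rels emb).index ≠ 0 ∧ (presSub k rels emb).index ≤ n := by
  subst hk
  refine C.index_le_wide hsteps hrows hzero hn _ (sat_presGen _ _).sq ((sat_presGen _ _).out _ le_rfl)
    (closure_presGen _ _) (by rw [hrels]; exact (sat_presGen _ _).rel_word) _ fun w hw => ?_
  rw [hsubs] at hw
  obtain ⟨x, hx, rfl⟩ := List.mem_map.1 hw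
  rw [show ev (presGen C.k rels) [x] = presGen C.k rels x by simp [ev]]
  exact Subgroup.subset_closure ⟨x, hx, rfl⟩

/-- The order is at most a bound for the index times a bound for the subgroup. -/
theorem card_le_of_index_le {k n : ℕ} {rels rels' : List PowRel} {emb : List ℕ}
    (hidx : (presSub k rels emb).index ≠ 0 ∧ (presSub k rels emb).index ≤ n) {l m : ℕ} (hl : emb.length = l)
    (hrel : ∀ r ∈ rels', (r.1.map fun x => emb.getD x k, r.2) ∈ rels)
    (hsub : Nat.card (Pres l rels') ≠ 0 ∧ Nat.card (Pres l rels') ≤ m) :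
    Nat.card (Pres k rels) ≠ 0 ∧ Nat.card (Pres k rels) ≤ n * m := by
  subst hl
  haveI := Nat.finite_of_card_ne_zero hsub.1
  haveI := Finite.of_surjective _ (subHom emb hrel).rangeRestrict_surjective
  have h1 : Nat.card (presSub k rels emb) ≤ m ∧ Nat.card (presSub k rels emb) ≠ 0 := by
    rw [← range_subHom hrel]
    exact ⟨(Nat.card_le_card_of_surjective _ (subHom emb hrel).rangeRestrict_surjective).trans hsub.2,
      Nat.card_pos.ne'⟩
  rw [← Subgroup.index_mul_card (presSub k rels emb)]
  exact ⟨mul_ne_zero hidx.1 h1.2, Nat.mul_le_mul hidx.2 h1.1⟩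

variable (C)

/-- A path from the first node back to it spells this word. -/
noncomputable def Cert.pathOK (nE : ℕ) (ps w : List ℕ) : Bool :=
  match C.walk nE ps ps.length 0 with
  | some (L, fin, _) => Nat.beq fin 0 && beqWord L w
  | none => false

variable {C}

/-- The word of a closed path in a derivation over the trivial subgroup is trivial. -/
theorem Cert.ev_eq_one_of_path {nE : ℕ} (hsteps : C.StepsWideOK 0 nE) (hsubs : C.subs = [])
    {g : ℕ → G} (hg : ∀ x, g x * g x = 1) (hk : g C.k = 1) (hrels : ∀ r ∈ C.rels, ev g r = 1) {ps w : List ℕ}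
    (h : C.pathOK nE ps w = true) : ev g w = 1 := by
  have hE := C.holds_of_stepsWide hg hk ⊥ hrels (by rw [hsubs]; simp) hsteps
  unfold Cert.pathOK at h
  split at h
  · next L fin rest hw =>
    simp only [Bool.and_eq_true] at h
    have h1 := C.walk_sound hg hk ⊥ hE _ _ _ _ _ _ hw
    rw [Nat.eq_of_beq_eq_true h.1, C.word_zero, one_mul, inv_one, mul_one, Subgroup.mem_bot,
      beqWord_iff h.2] at h1
    exact h1
  · cases h

end CfsgLib.Spor.TC
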