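import Cfsg.Agent.Lib.Spor.TC.Check

/-!
# Derivations of coset equations for arbitrary generators

A checker for certificates of coset equations `H w_u x = H w_v` in a group whose letters come in
pairs: below `k`, the letter `x ^^^ 1` is the inverse of `x`, and `k` is the empty letter. Reading
an equation backwards inverts its letter. The checked equations bound the index of the subgroup,
and a closed path of equations shows that a word lies in it.
-/

set_option autoImplicit false

namespace CfsgLib.Spor.TC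

/-- The inverse letter. -/
noncomputable def invLetter (k x : ℕ) : ℕ := Bool.rec (Nat.xor x 1) x (Nat.ble k x)

/-- The inverse of a word, in front of another. -/
noncomputable def revInvOnto (k : ℕ) (l acc : List ℕ) : List ℕ :=
  List.rec (motive := fun _ => List ℕ → List ℕ) (fun acc => acc)
    (fun a _ ih acc => ih (invLetter k a :: acc)) l acc

/-- Cancel adjacent inverse letters. -/
noncomputable def freeReduce (k : ℕ) (l : List ℕ) : List ℕ :=
  List.rec (motive := fun _ => List ℕ) []
    (fun a _ r => List.rec (motive := fun _ => List ℕ) [a]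
      (fun b l' _ => Bool.rec (a :: b :: l') l' (Nat.beq (invLetter k a) b)) r) l

variable (C : Cert)

/-- The label of a premise, inverted when it is read backwards. -/
noncomputable def Cert.qLab (p : ℕ) : ℕ :=
  Bool.rec (invLetter C.k (eLab (C.edge (Nat.shiftRight p 1)))) (eLab (C.edge (Nat.shiftRight p 1)))
    (Nat.beq (Nat.land p 1) 0)

/-- Follow `len` premises (all of index below `j`): labels, end, and the premises left. -/
noncomputable def Cert.sWalk (j : ℕ) (ps : List ℕ) (len cur : ℕ) : Option (List ℕ × ℕ × List ℕ) :=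
  List.rec (motive := fun _ => ℕ → ℕ → Option (List ℕ × ℕ × List ℕ))
    (fun len cur => Bool.rec none (some ([], cur, [])) (Nat.beq len 0))
    (fun p rest ih len cur => Bool.rec
      (Bool.rec none
        (Option.rec (motive := fun _ => Option (List ℕ × ℕ × List ℕ)) none
          (fun r => some (Bool.rec (C.qLab p :: r.1) r.1 (Nat.beq (C.qLab p) C.k), r.2))
          (ih (Nat.sub len 1) (C.pDst p)))
        (Nat.blt (Nat.shiftRight p 1) j && Nat.beq (C.pSrc p) cur))
      (some ([], cur, p :: rest)) (Nat.beq len 0))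
    ps len cur

/-- Justify equation `j` by a known word read from `c` and two paths meeting at `c`. -/
noncomputable def Cert.sCloseOK (words : List (List ℕ)) (j r c l₁ : ℕ) (ps : List ℕ) : Bool :=
  match C.sWalk j ps l₁ (eSrc (C.edge j)) with
  | none => false
  | some (L₁, c₁, rest) =>
    match C.sWalk j rest rest.length c, nth words r with
    | some (L₂, v₁, _), some w =>
      Nat.beq c₁ c && Nat.beq v₁ (eDst (C.edge j)) &&
        beqWord (revInvOnto C.k L₁ (labWord C.k (eLab (C.edge j)) ++ revInvOnto C.k L₂ [])) w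
    | _, _ => false

/-- Equation `j` follows from its code. -/
noncomputable def Cert.sStepOK (j code : ℕ) : Bool :=
  match digits code with
  | [] => false
  | tag :: rest =>
    bif Nat.beq tag 0 then
      Nat.beq (C.parent (eDst (C.edge j))) (eSrc (C.edge j)) &&
        Nat.blt (eSrc (C.edge j)) (eDst (C.edge j)) && Nat.beq (C.letter (eDst (C.edge j))) (eLab (C.edge j))
    else bif Nat.beq tag 1 then
      match rest with
      | r :: c :: l₁ :: ps => C.sCloseOK C.rels j r c l₁ ps
      | _ => false
    else bif Nat.beq tag 2 then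
      match rest with
      | r :: l₁ :: ps => C.sCloseOK C.subs j r 0 l₁ ps
      | _ => false
    else
      match C.sWalk j rest rest.length (eSrc (C.edge j)) with
      | some (L, v₁, _) => Nat.beq v₁ (eDst (C.edge j)) &&
          beqWord (freeReduce C.k L) (labWord C.k (eLab (C.edge j)))
      | none => false

/-- The steps `a, a+1, …`, finishing at `b`. -/
noncomputable def Cert.sStepsFrom (a b : ℕ) (codes : List ℕ) : Bool :=
  List.rec (motive := fun _ => ℕ → Bool) (fun a => Nat.beq a b)
    (fun c _ ih a => C.sStepOK a c && ih (Nat.add a 1)) codes a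

/-- A row code lists, for each letter from `x` on, a premise and the row its end has. -/
noncomputable def Cert.sRowAux (nE n c : ℕ) (ps : List ℕ) (x : ℕ) : Bool :=
  List.rec (motive := fun _ => ℕ → Bool) (fun x => Nat.beq x C.k)
    (fun q _ ih x =>
      (Nat.blt (Nat.shiftRight (Nat.shiftRight q 20) 1) nE && Nat.blt (Nat.land q 1048575) n &&
        Nat.beq (C.pSrc (Nat.shiftRight q 20)) c && Nat.beq (C.qLab (Nat.shiftRight q 20)) x &&
        Nat.beq (C.rowNode (Nat.land q 1048575)) (C.pDst (Nat.shiftRight q 20))) && ih (Nat.add x 1))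
    ps x

/-- The rows `a, a+1, …`, finishing at `b`. -/
noncomputable def Cert.sRowsFrom (nE n a b : ℕ) (codes : List ℕ) : Bool :=
  List.rec (motive := fun _ => ℕ → Bool) (fun a => Nat.beq a b)
    (fun c _ ih a => C.sRowAux nE n (C.rowNode a) (digits44 c) 0 && ih (Nat.add a 1)) codes a

/-- A closed path of equations at the origin reading the word `w`. -/
noncomputable def Cert.sTraceOK (nE : ℕ) (w : List ℕ) (code : ℕ) : Bool :=
  match C.sWalk nE (digits code) (digits code).length 0 with
  | some (L, v, _) => Nat.beq v 0 && beqWord (freeReduce C.k L) (freeReduce C.k w)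
  | none => false

/-- The steps `a, …, b-1` are justified. -/
def Cert.SStepsOK (a b : ℕ) : Prop := ∀ j, a ≤ j → j < b → ∃ code, C.sStepOK j code = true

/-- The rows `a, …, b-1` are closed under the letters. -/
def Cert.SRowsOK (nE n a b : ℕ) : Prop :=
  ∀ i, a ≤ i → i < b → ∃ code, C.sRowAux nE n (C.rowNode i) (digits44 code) 0 = true

theorem Cert.SStepsOK.of_check : ∀ {codes : List ℕ} {a b : ℕ}, C.sStepsFrom a b codes = true →
    C.SStepsOK a b := by
  intro codes
  induction codes with
  | nil => intro a b h j h1 h2; have := Nat.eq_of_beq_eq_true (h : Nat.beq a b = true); omega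
  | cons c cs ih =>
    intro a b h j h1 h2
    change (C.sStepOK a c && C.sStepsFrom (Nat.add a 1) b cs) = true at h
    simp only [Bool.and_eq_true] at h
    by_cases hj : j = a
    · exact ⟨c, hj ▸ h.1⟩
    · exact ih h.2 j (show a + 1 ≤ j by omega) h2

theorem Cert.SRowsOK.of_check {nE n : ℕ} : ∀ {codes : List ℕ} {a b : ℕ},
    C.sRowsFrom nE n a b codes = true → C.SRowsOK nE n a b := by
  intro codes
  induction codes with
  | nil => intro a b h j h1 h2; have := Nat.eq_of_beq_eq_true (h : Nat.beq a b = true); omega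
  | cons c cs ih =>
    intro a b h j h1 h2
    change (C.sRowAux nE n (C.rowNode a) (digits44 c) 0 && C.sRowsFrom nE n (Nat.add a 1) b cs) = true at h
    simp only [Bool.and_eq_true] at h
    by_cases hj : j = a
    · exact ⟨c, hj ▸ h.1⟩
    · exact ih h.2 j (show a + 1 ≤ j by omega) h2

theorem Cert.SStepsOK.append {a b c : ℕ} (h1 : C.SStepsOK a b) (h2 : C.SStepsOK b c) : C.SStepsOK a c :=
  fun j ha hc => if h : j < b then h1 j ha h else h2 j (by omega) hc

theorem Cert.SRowsOK.append {nE n a b c : ℕ} (h1 : C.SRowsOK nE n a b) (h2 : C.SRowsOK nE n b c) :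
    C.SRowsOK nE n a c :=
  fun j ha hc => if h : j < b then h1 j ha h else h2 j (by omega) hc

variable {G : Type*} [Group G]

section

variable {g : ℕ → G} (hg : ∀ x, g (invLetter C.k x) = (g x)⁻¹) (hk : g C.k = 1)

include hg in
theorem ev_revInvOnto : ∀ (l acc : List ℕ), ev g (revInvOnto C.k l acc) = (ev g l)⁻¹ * ev g acc := by
  intro l
  induction l with
  | nil => intro acc; simp [ev, revInvOnto]
  | cons a l ih =>
    intro acc
    show ev g (revInvOnto C.k l (invLetter C.k a :: acc)) = _
    rw [ih, ev_cons, ev_cons, mul_inv_rev, hg, mul_assoc]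

include hg in
theorem ev_freeReduce (a : List ℕ) : ev g (freeReduce C.k a) = ev g a := by
  induction a with
  | nil => rfl
  | cons x a ih =>
    rw [ev_cons, ← ih]
    show ev g (List.rec (motive := fun _ => List ℕ) [x]
      (fun b l' _ => Bool.rec (x :: b :: l') l' (Nat.beq (invLetter C.k x) b)) (freeReduce C.k a)) = _
    rcases freeReduce C.k a with _ | ⟨b, l'⟩
    · simp [ev]
    · show ev g (Bool.rec (x :: b :: l') l' (Nat.beq (invLetter C.k x) b)) = _
      rcases hb : Nat.beq (invLetter C.k x) b
      · rw [ev_cons]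
      · rw [← Nat.eq_of_beq_eq_true hb, ev_cons, hg, mul_inv_cancel_left]

variable (H : Subgroup G)

include hg in
theorem Cert.holds_premise_signed {p : ℕ} (h : C.Holds g H (Nat.shiftRight p 1)) :
    C.word g (C.pSrc p) * g (C.qLab p) * (C.word g (C.pDst p))⁻¹ ∈ H := by
  unfold Cert.pSrc Cert.qLab Cert.pDst
  rcases Nat.beq (Nat.land p 1) 0
  · have := H.inv_mem h
    simpa [mul_inv_rev, mul_assoc, hg] using this
  · exact h

include hg hk in
theorem Cert.sWalk_sound {j : ℕ} (hj : ∀ i, i < j → C.Holds g H i) :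
    ∀ (ps : List ℕ) (len cur : ℕ) (L : List ℕ) (fin : ℕ) (rest : List ℕ),
      C.sWalk j ps len cur = some (L, fin, rest) → C.word g cur * ev g L * (C.word g fin)⁻¹ ∈ H := by
  intro ps
  induction ps with
  | nil =>
    intro len cur L fin rest h
    change Bool.rec none (some ([], cur, [])) (Nat.beq len 0) = some (L, fin, rest) at h
    revert h
    rcases Nat.beq len 0 <;> intro h <;> cases h
    simp [ev]
  | cons p ps ih =>
    intro len cur L fin rest h
    change Bool.rec
      (Bool.rec none
        (Option.rec (motive := fun _ => Option (List ℕ × ℕ × List ℕ)) none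
          (fun r => some (Bool.rec (C.qLab p :: r.1) r.1 (Nat.beq (C.qLab p) C.k), r.2))
          (C.sWalk j ps (Nat.sub len 1) (C.pDst p)))
        (Nat.blt (Nat.shiftRight p 1) j && Nat.beq (C.pSrc p) cur))
      (some ([], cur, p :: ps)) (Nat.beq len 0) = some (L, fin, rest) at h
    revert h
    rcases Nat.beq len 0 <;> intro h
    swap
    · cases h; simp [ev]
    revert h
    dsimp only
    rcases hb : (Nat.blt (Nat.shiftRight p 1) j && Nat.beq (C.pSrc p) cur) <;> intro h
    · cases h
    simp only [Bool.and_eq_true] at hb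
    revert h
    dsimp only
    rcases hw : C.sWalk j ps (Nat.sub len 1) (C.pDst p) with _ | ⟨L', fin', rest'⟩ <;> intro h
    · cases h
    cases h
    have h3 := H.mul_mem (C.holds_premise_signed hg H (hj _ (Nat.le_of_ble_eq_true hb.1))) (ih _ _ _ _ _ hw)
    have e1 : ev g (Bool.rec (C.qLab p :: L') L' (Nat.beq (C.qLab p) C.k)) = g (C.qLab p) * ev g L' := by
      rcases hl : Nat.beq (C.qLab p) C.k
      · rw [ev_cons]
      · rw [Nat.eq_of_beq_eq_true hl, hk, one_mul]
    rw [e1, ← Nat.eq_of_beq_eq_true hb.2]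
    convert h3 using 1
    group

include hg hk in
theorem Cert.sCloseOK_sound {words : List (List ℕ)} {j r c l₁ : ℕ} {ps : List ℕ}
    (hj : ∀ i, i < j → C.Holds g H i) (hW : ∀ w ∈ words, C.word g c * ev g w * (C.word g c)⁻¹ ∈ H)
    (h : C.sCloseOK words j r c l₁ ps = true) : C.Holds g H j := by
  unfold Cert.sCloseOK at h
  split at h
  · cases h
  next L₁ c₁ rest hw1 =>
  split at h
  · next L₂ v₁ rest₂ wd hw2 hr =>
    simp only [Bool.and_eq_true] at h
    obtain ⟨⟨hc, hv⟩, hwd⟩ := h
    have e0 := hW wd (nth_mem hr)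
    rw [← beqWord_iff hwd, ev_revInvOnto C hg, ev_append, ev_labWord C hk, ev_revInvOnto C hg] at e0
    have h1 := C.sWalk_sound hg hk H hj _ _ _ _ _ _ hw1
    have h2 := C.sWalk_sound hg hk H hj _ _ _ _ _ _ hw2
    rw [Nat.eq_of_beq_eq_true hc] at h1
    rw [Nat.eq_of_beq_eq_true hv] at h2
    show _ * _ * _ ∈ H
    convert H.mul_mem (H.mul_mem h1 e0) h2 using 1
    simp only [ev, List.map_nil, List.prod_nil, mul_one]
    group
  · cases h

include hg hk in
theorem Cert.holds_of_sSteps {n : ℕ} (hR : ∀ w ∈ C.rels, ev g w = 1) (hS : ∀ w ∈ C.subs, ev g w ∈ H)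
    (hok : C.SStepsOK 0 n) : ∀ j, j < n → C.Holds g H j := by
  intro j
  induction j using Nat.strong_induction_on with
  | _ j ih =>
    intro hjn
    have hj : ∀ i, i < j → C.Holds g H i := fun i hi => ih i hi (hi.trans hjn)
    obtain ⟨code, h⟩ := hok j (Nat.zero_le j) hjn
    unfold Cert.sStepOK at h
    split at h
    · cases h
    next tag rest _ =>
    revert h
    rcases Nat.beq tag 0 <;> intro h <;> simp only [cond_true, cond_false] at h
    swap
    · simp only [Bool.and_eq_true] at h
      have hlt : eSrc (C.edge j) < eDst (C.edge j) := Nat.le_of_ble_eq_true h.1.2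
      have hp := Nat.eq_of_beq_eq_true h.1.1
      show _ * _ * _ ∈ H
      conv => enter [2, 2, 1]; rw [Cert.word, dif_pos (by rw [hp]; exact hlt), hp, Nat.eq_of_beq_eq_true h.2]
      simp
    revert h
    rcases Nat.beq tag 1 <;> intro h <;> simp only [cond_true, cond_false] at h
    swap
    · split at h
      · refine C.sCloseOK_sound hg hk H hj (fun w hw => ?_) h
        rw [hR w hw, mul_one, mul_inv_cancel]
        exact H.one_mem
      · cases h
    revert h
    rcases Nat.beq tag 2 <;> intro h <;> simp only [cond_true, cond_false] at h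
    swap
    · split at h
      · refine C.sCloseOK_sound hg hk H hj (fun w hw => ?_) h
        rw [C.word_zero, one_mul, inv_one, mul_one]
        exact hS w hw
      · cases h
    split at h
    · next L v₁ rest' hw =>
      simp only [Bool.and_eq_true] at h
      have h1 := C.sWalk_sound hg hk H hj _ _ _ _ _ _ hw
      rw [Nat.eq_of_beq_eq_true h.1, ← ev_freeReduce C hg, beqWord_iff h.2, ev_labWord C hk] at h1
      exact h1
    · cases h

end

variable {C}

/-- A checked path shows that a word lies in the subgroup. -/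
theorem Cert.mem_of_sTrace {nE code : ℕ} {w : List ℕ} (hsteps : C.SStepsOK 0 nE)
    (h : C.sTraceOK nE w code = true) (g : ℕ → G) (hg : ∀ x, g (invLetter C.k x) = (g x)⁻¹) (hk : g C.k = 1)
    (hR : ∀ r ∈ C.rels, ev g r = 1) (H : Subgroup G) (hS : ∀ r ∈ C.subs, ev g r ∈ H) : ev g w ∈ H := by
  unfold Cert.sTraceOK at h
  split at h
  · next L v rest hw =>
    simp only [Bool.and_eq_true] at h
    have h1 := C.sWalk_sound hg hk H (C.holds_of_sSteps hg hk H hR hS hsteps) _ _ _ _ _ _ hw
    rw [Nat.eq_of_beq_eq_true h.1, C.word_zero, one_mul, inv_one, mul_one, ← ev_freeReduce C hg,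
      beqWord_iff h.2, ev_freeReduce C hg] at h1
    exact h1
  · cases h

theorem Cert.sRowAux_spec {nE n c : ℕ} : ∀ {ps : List ℕ} {x0 : ℕ}, C.sRowAux nE n c ps x0 = true →
    ∀ x, x0 ≤ x → x < C.k → ∃ p i, Nat.shiftRight p 1 < nE ∧ i < n ∧ C.pSrc p = c ∧ C.qLab p = x ∧
      C.rowNode i = C.pDst p := by
  intro ps
  induction ps with
  | nil => intro x0 h x h1 h2; have := Nat.eq_of_beq_eq_true (h : Nat.beq x0 C.k = true); omega
  | cons q ps ih =>
    intro x0 h x h1 h2
    change ((Nat.blt (Nat.shiftRight (Nat.shiftRight q 20) 1) nE && Nat.blt (Nat.land q 1048575) n &&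
        Nat.beq (C.pSrc (Nat.shiftRight q 20)) c && Nat.beq (C.qLab (Nat.shiftRight q 20)) x0 &&
        Nat.beq (C.rowNode (Nat.land q 1048575)) (C.pDst (Nat.shiftRight q 20))) &&
        C.sRowAux nE n c ps (Nat.add x0 1)) = true at h
    simp only [Bool.and_eq_true] at h
    obtain ⟨⟨⟨⟨⟨hE, hn⟩, hs⟩, hl⟩, hd⟩, hrest⟩ := h
    by_cases hx : x = x0
    · exact ⟨_, _, Nat.le_of_ble_eq_true hE, Nat.le_of_ble_eq_true hn, Nat.eq_of_beq_eq_true hs,
        hx ▸ Nat.eq_of_beq_eq_true hl, Nat.eq_of_beq_eq_true hd⟩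
    · exact ih hrest x (show x0 + 1 ≤ x by omega) h2

/-- A checked certificate bounds the index. -/
theorem Cert.index_le_signed {nE n : ℕ} (hsteps : C.SStepsOK 0 nE) (hrows : C.SRowsOK nE n 0 n)
    (hzero : C.rowNode 0 = 0) (hn : 0 < n) (g : ℕ → G) (hg : ∀ x, g (invLetter C.k x) = (g x)⁻¹) (hk : g C.k = 1)
    (hlt : ∀ x < C.k, invLetter C.k x < C.k)
    (hgen : Subgroup.closure (g '' Set.Iio C.k) = ⊤) (hrels : ∀ r ∈ C.rels, ev g r = 1) (H : Subgroup G)
    (hsubs : ∀ r ∈ C.subs, ev g r ∈ H) : H.index ≠ 0 ∧ H.index ≤ n := by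
  have hE := C.holds_of_sSteps hg hk H hrels hsubs hsteps
  set w := C.word g with hw
  let R : Set ℕ := {c | ∃ i, i < n ∧ C.rowNode i = c}
  have hstep : ∀ x ∈ Set.Iio C.k, ∀ c ∈ R, ∃ d ∈ R, w c * g x * (w d)⁻¹ ∈ H := by
    rintro x hx c ⟨i, hi, rfl⟩
    obtain ⟨code, hc⟩ := hrows i (Nat.zero_le i) hi
    obtain ⟨p, i', hp, hi', hs, hl, hd⟩ := Cert.sRowAux_spec hc x (Nat.zero_le x) hx
    refine ⟨C.pDst p, ⟨i', hi', hd⟩, ?_⟩
    have h3 := C.holds_premise_signed hg H (hE _ hp)
    rwa [hs, hl] at h3
  have hall : ∀ y : G, ∀ c ∈ R, ∃ d ∈ R, w c * y * (w d)⁻¹ ∈ H := by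
    intro y
    have hy : y ∈ Subgroup.closure (g '' Set.Iio C.k) := hgen ▸ Subgroup.mem_top y
    induction hy using Subgroup.closure_induction'' with
    | mem z hz => obtain ⟨x, hx, rfl⟩ := hz; exact hstep x hx
    | inv_mem z hz =>
      obtain ⟨x, hx, rfl⟩ := hz
      rw [← hg x]; exact hstep _ (hlt x hx)
    | one => exact fun c hc => ⟨c, hc, by simp⟩
    | mul u v _ _ hu hv =>
      intro c hc
      obtain ⟨d, hd, h1⟩ := hu c hc
      obtain ⟨e, he, h2⟩ := hv d hd
      refine ⟨e, he, ?_⟩
      convert H.mul_mem h1 h2 using 1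
      group
  let f : Fin n → G ⧸ H := fun i => QuotientGroup.mk (w (C.rowNode i))⁻¹
  have hf : Function.Surjective f := by
    intro q
    induction q using QuotientGroup.induction_on with
    | H y =>
      obtain ⟨d, ⟨i, hi, rfl⟩, h⟩ := hall y⁻¹ 0 ⟨0, hn, hzero⟩
      refine ⟨⟨i, hi⟩, ?_⟩
      show QuotientGroup.mk (w (C.rowNode i))⁻¹ = QuotientGroup.mk y
      rw [QuotientGroup.eq, inv_inv]
      rw [show w 0 = 1 from C.word_zero g, one_mul] at h
      have := H.inv_mem h
      rwa [mul_inv_rev, inv_inv, inv_inv] at this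
  have : Finite (G ⧸ H) := Finite.of_surjective f hf
  refine ⟨?_, ?_⟩
  · exact Nat.card_pos.ne'
  · calc H.index = Nat.card (G ⧸ H) := rfl
      _ ≤ Nat.card (Fin n) := Nat.card_le_card_of_surjective f hf
      _ = n := Nat.card_fin n

end CfsgLib.Spor.TC
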