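/-
Groups presented by a labelled graph, as groups presented by words in numbered involutions.
-/
import Cfsg.Agent.Lib.Spor.TC.Steps
import Cfsg.Prelude.Def_SporCoxeter

namespace CfsgLib.Spor.TC

open Cfsg.Spor

variable {α : Type} [DecidableEq α]

theorem coxLabel_comm (edges : List (α × ℕ × α)) (x y : α) : coxLabel edges x y = coxLabel edges y x := by
  unfold coxLabel
  by_cases h : x = y
  · rw [if_pos h, if_pos h.symm]
  · rw [if_neg h, if_neg (Ne.symm h)]
    have e : (fun e : α × ℕ × α => decide ((e.1 = x ∧ e.2.2 = y) ∨ (e.1 = y ∧ e.2.2 = x))) =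
        fun e => decide ((e.1 = y ∧ e.2.2 = x) ∨ (e.1 = x ∧ e.2.2 = y)) :=
      funext fun e => decide_eq_decide.2 or_comm
    rw [e]

/-- The pairwise relators of the graph. -/
def pairRels (k : ℕ) (nam : ℕ → α) (edges : List (α × ℕ × α)) : List PowRel :=
  (List.range k).flatMap fun i => ((List.range k).filter fun j => i < j).map fun j =>
    ([i, j], coxLabel edges (nam i) (nam j))

/-- How the generators are numbered, and what the further relators become. -/
structure CoxData (edges : List (α × ℕ × α)) (extra : List (FreeGroup α)) where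
  k : ℕ
  num : α → ℕ
  nam : ℕ → α
  num_lt : ∀ a, num a < k
  nam_num : ∀ a, nam (num a) = a
  num_nam : ∀ x, x < k → num (nam x) = x
  nodes : ∀ a, a ∈ coxNodes edges
  more : List PowRel
  more_iff : ∀ {G : Type} [Group G] (g : ℕ → G) (f : FreeGroup α →* G), (∀ x, g x * g x = 1) →
    (∀ a, f (FreeGroup.of a) = g (num a)) → ((∀ r ∈ more, ev g r.1 ^ r.2 = 1) ↔ ∀ r ∈ extra, f r = 1)

variable {edges : List (α × ℕ × α)} {extra : List (FreeGroup α)} (D : CoxData edges extra)

/-- The relators as words. -/
def CoxData.rels : List PowRel := pairRels D.k D.nam edges ++ D.more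

theorem mem_pairRels {k : ℕ} {nam : ℕ → α} {r : PowRel} :
    r ∈ pairRels k nam edges ↔ ∃ i j, i < j ∧ j < k ∧ r = ([i, j], coxLabel edges (nam i) (nam j)) := by
  simp only [pairRels, List.mem_flatMap, List.mem_map, List.mem_filter, List.mem_range, decide_eq_true_eq]
  constructor
  · rintro ⟨i, -, j, ⟨hj, hij⟩, rfl⟩; exact ⟨i, j, hij, hj, rfl⟩
  · rintro ⟨i, j, hij, hj, rfl⟩; exact ⟨i, hij.trans hj, j, ⟨hj, hij⟩, rfl⟩

/-- The images of the numbered generators. -/
def CoxData.gen (x : ℕ) : CoxPresented α edges extra := if x < D.k then PresentedGroup.of (D.nam x) else 1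

theorem coxRel_one (x y : α) (D : CoxData edges extra) :
    ((PresentedGroup.of x : CoxPresented α edges extra) * PresentedGroup.of y) ^ coxLabel edges x y = 1 :=
  PresentedGroup.one_of_mem (x := (FreeGroup.of x * FreeGroup.of y) ^ coxLabel edges x y)
    (Or.inl ⟨x, D.nodes x, y, D.nodes y, rfl⟩)

theorem CoxData.sq (x : ℕ) : D.gen x * D.gen x = 1 := by
  unfold CoxData.gen
  split
  · simpa [coxLabel] using coxRel_one (D.nam x) (D.nam x) D
  · rw [mul_one]

theorem CoxData.sat : Sat D.k D.rels D.gen := by
  refine ⟨D.sq, fun x hx => ?_, fun r hr => ?_⟩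
  · rw [CoxData.gen, if_neg (Nat.not_lt.2 hx)]
  · rcases List.mem_append.1 hr with hr | hr
    · obtain ⟨i, j, hij, hj, rfl⟩ := mem_pairRels.1 hr
      show ev D.gen [i, j] ^ _ = 1
      rw [show ev D.gen [i, j] = D.gen i * D.gen j by simp [ev], CoxData.gen, CoxData.gen, if_pos hj,
        if_pos (hij.trans hj)]
      exact coxRel_one _ _ D
    · exact (D.more_iff D.gen (PresentedGroup.mk _) D.sq fun a => by
        rw [CoxData.gen, if_pos (D.num_lt a), D.nam_num]; rfl).2
        (fun w hw => PresentedGroup.one_of_mem (Or.inr hw)) r hr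

/-- The map from the graph's group. -/
def CoxData.back : CoxPresented α edges extra →* Pres D.k D.rels :=
  PresentedGroup.toGroup (f := fun a => presGen D.k D.rels (D.num a)) (by
    have hs := sat_presGen D.k D.rels
    rintro r (⟨x, -, y, -, rfl⟩ | hr)
    · rw [map_pow, map_mul, FreeGroup.lift_apply_of, FreeGroup.lift_apply_of]
      have key : ∀ i j, i < j → j < D.k → (presGen D.k D.rels i * presGen D.k D.rels j) ^
          coxLabel edges (D.nam i) (D.nam j) = 1 := fun i j hij hj => by
        have h1 := hs.rel _ (List.mem_append_left D.more (mem_pairRels.2 ⟨i, j, hij, hj, rfl⟩))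
        simpa [ev] using h1
      rcases lt_trichotomy (D.num x) (D.num y) with h | h | h
      · simpa [D.nam_num] using key _ _ h (D.num_lt y)
      · rw [h, hs.sq, one_pow]
      · have h1 := key _ _ h (D.num_lt x)
        rw [D.nam_num, D.nam_num, coxLabel_comm] at h1
        rw [show presGen D.k D.rels (D.num x) * presGen D.k D.rels (D.num y) =
          (presGen D.k D.rels (D.num y) * presGen D.k D.rels (D.num x))⁻¹ by
            rw [mul_inv_rev, inv_eq_of_mul_eq_one_right (hs.sq _), inv_eq_of_mul_eq_one_right (hs.sq _)],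
          inv_pow, h1, inv_one]
    · exact (D.more_iff _ _ hs.sq fun a => FreeGroup.lift_apply_of).1
        (fun p hp => hs.rel p (List.mem_append_right _ hp)) r hr)

/-- The two groups are isomorphic. -/
def CoxData.equiv : Pres D.k D.rels ≃* CoxPresented α edges extra :=
  MonoidHom.toMulEquiv (presHom D.sat) D.back
    (by
      refine PresentedGroup.ext fun x => ?_
      have e : (PresentedGroup.of x : Pres D.k D.rels) = presGen D.k D.rels x := by
        rw [presGen, freeGen, dif_pos x.2]; rfl
      rw [MonoidHom.comp_apply, MonoidHom.id_apply, e, presHom_gen, CoxData.gen, if_pos x.2, CoxData.back,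
        PresentedGroup.toGroup.of, D.num_nam _ x.2])
    (by
      refine PresentedGroup.ext fun a => ?_
      rw [MonoidHom.comp_apply, MonoidHom.id_apply, CoxData.back, PresentedGroup.toGroup.of, presHom_gen,
        CoxData.gen, if_pos (D.num_lt a), D.nam_num])

theorem CoxData.equiv_gen (a : α) : D.equiv (presGen D.k D.rels (D.num a)) = PresentedGroup.of a := by
  rw [CoxData.equiv, MonoidHom.toMulEquiv_apply, presHom_gen, CoxData.gen, if_pos (D.num_lt a), D.nam_num]

/-- The image of a subgroup of generators. -/
theorem CoxData.map_presSub (emb : List ℕ) (S : Set (FreeGroup α))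
    (hS : S = (fun x => FreeGroup.of (D.nam x)) '' {x | x ∈ emb}) (hemb : ∀ x ∈ emb, x < D.k) :
    (presSub D.k D.rels emb).map D.equiv.toMonoidHom =
      (Subgroup.closure S).map (PresentedGroup.mk (coxRelators edges ∪ {r | r ∈ extra})) := by
  subst hS
  rw [MonoidHom.map_closure, MonoidHom.map_closure, Set.image_image, Set.image_image]
  congr 1
  refine Set.image_congr fun x hx => ?_
  have h := D.equiv_gen (D.nam x)
  rw [D.num_nam x (hemb x hx)] at h
  exact h

/-- The isomorphism, for relators known to be the same list. -/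
theorem CoxData.exists_equiv {k : ℕ} {R : List PowRel} (hk : D.k = k) (hR : D.rels = R) :
    ∃ e : Pres k R ≃* CoxPresented α edges extra, ∀ (emb : List ℕ) (S : Set (FreeGroup α)),
      S = (fun x => FreeGroup.of (D.nam x)) '' {x | x ∈ emb} → (∀ x ∈ emb, x < k) →
      (presSub k R emb).map e.toMonoidHom =
        (Subgroup.closure S).map (PresentedGroup.mk (coxRelators edges ∪ {r | r ∈ extra})) := by
  subst hk hR
  exact ⟨D.equiv, D.map_presSub⟩

end CfsgLib.Spor.TC
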