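import Cfsg.Agent.Lib.Spor.TC.Action
/-!
The range check of an action with every intermediate number evaluated before use.
-/

namespace CfsgLib.Spor.TC

variable (A : Act)

/-- Apply a function to a number after evaluating the number. -/
noncomputable def strict {α : Type} (n : ℕ) (f : ℕ → α) : α :=
  Nat.rec (motive := fun _ => α) (f 0) (fun m _ => f (Nat.succ m)) n

theorem strict_eq {α : Type} (n : ℕ) (f : ℕ → α) : strict n f = f n := by cases n <;> rfl

noncomputable def Act.wactS (w : List ℕ) (c : ℕ) : ℕ :=
  List.rec (motive := fun _ => ℕ) c (fun a _ ih => strict ih (A.T a)) w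

theorem Act.wactS_eq (w : List ℕ) (c : ℕ) : A.wactS w c = A.wact w c := by
  induction w with
  | nil => rfl
  | cons a w ih =>
    show strict (A.wactS w c) (A.T a) = A.T a (A.wact w c)
    rw [strict_eq, ih]

noncomputable def Act.wpowS (w : List ℕ) (m c : ℕ) : ℕ :=
  Nat.rec (motive := fun _ => ℕ) c (fun _ ih => strict ih (A.wactS w)) m

theorem Act.wpowS_eq (w : List ℕ) (m c : ℕ) : A.wpowS w m c = A.wpow w m c := by
  induction m with
  | zero => rfl
  | succ m ih =>
    show strict (A.wpowS w m c) (A.wactS w) = A.wact w (A.wpow w m c)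
    rw [strict_eq, ih, A.wactS_eq]

noncomputable def Act.defsOKS (c : ℕ) (ws : List (List ℕ)) (x : ℕ) : Bool :=
  List.rec (motive := fun _ => ℕ → Bool) (fun _ => true)
    (fun w _ ih x => (allBelow x w && Nat.beq (A.T x c) (A.wactS w c)) && strict (Nat.add x 1) ih) ws x

theorem Act.defsOKS_eq (c : ℕ) (ws : List (List ℕ)) : ∀ x, A.defsOKS c ws x = A.defsOKAt c ws x := by
  induction ws with
  | nil => intro x; rfl
  | cons w ws ih =>
    intro x
    show ((allBelow x w && Nat.beq (A.T x c) (A.wactS w c)) && strict (Nat.add x 1) (A.defsOKS c ws)) =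
      ((allBelow x w && Nat.beq (A.T x c) (A.wact w c)) && A.defsOKAt c ws (Nat.add x 1))
    rw [strict_eq, A.wactS_eq, ih]

noncomputable def Act.relsOKS (c : ℕ) (rels : List PowRel) : Bool :=
  List.rec (motive := fun _ => Bool) true
    (fun r _ ih => Nat.beq (A.wpowS (shortWord A.defs r.1 A.k) r.2 c) c && ih) rels

theorem Act.relsOKS_eq (c : ℕ) (rels : List PowRel) : A.relsOKS c rels = A.relsOKAt c rels := by
  induction rels with
  | nil => rfl
  | cons r rels ih =>
    show (Nat.beq (A.wpowS (shortWord A.defs r.1 A.k) r.2 c) c && A.relsOKS c rels) =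
      (Nat.beq (A.wpow (shortWord A.defs r.1 A.k) r.2 c) c && A.relsOKAt c rels)
    rw [A.wpowS_eq, ih]

/-- The same test, running through the numbers evaluated. -/
noncomputable def allFromS (f : ℕ → Bool) (a len : ℕ) : Bool :=
  Nat.rec (motive := fun _ => ℕ → Bool) (fun _ => true) (fun _ ih a => f a && strict (Nat.add a 1) ih) len a

theorem allFromS_eq (f : ℕ → Bool) (a len : ℕ) : allFromS f a len = allFrom f a len := by
  induction len generalizing a with
  | zero => rfl
  | succ len ih =>
    show (f a && strict (Nat.add a 1) (fun b => allFromS f b len)) = (f a && allFrom f (Nat.add a 1) len)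
    rw [strict_eq, ih]

/-- The strict check of points `a, …, b - 1`. -/
noncomputable def Act.checkRangeS (rels : List PowRel) (a b : ℕ) : Bool :=
  allFromS (fun c => (A.invOK c && A.defsOKS c A.defs A.k) && A.relsOKS c rels) a (Nat.sub b a)

theorem Act.RangeOK.of_checkS {rels : List PowRel} {a b : ℕ} (h : A.checkRangeS rels a b = true) :
    A.RangeOK rels a b := by
  refine Act.RangeOK.of_check A ?_
  rw [Act.checkRangeS, allFromS_eq] at h
  simp only [A.defsOKS_eq, A.relsOKS_eq] at h
  exact h

end CfsgLib.Spor.TC
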