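import Cfsg.Agent.Lib.Spor.TC.Strict
import Cfsg.Agent.Lib.Spor.TC.Orbit
/-!
Level and orbit checks in ranges, with evaluated counters.
-/

namespace CfsgLib.Spor.TC

/-- A test at `a, …, b - 1`. -/
def RangeTest (f : ℕ → Bool) (a b : ℕ) : Prop := ∀ i, a ≤ i → i < b → f i = true

theorem RangeTest.of_check {f : ℕ → Bool} {a b : ℕ} (h : allFromS f a (Nat.sub b a) = true) : RangeTest f a b := by
  rw [allFromS_eq] at h
  exact fun c h1 h2 => allFrom_spec h c h1 (show c < a + (b - a) by omega)

theorem RangeTest.append {f : ℕ → Bool} {a b c : ℕ} (h1 : RangeTest f a b) (h2 : RangeTest f b c) :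
    RangeTest f a c :=
  fun x ha hc => if h : x < b then h1 x ha h else h2 x (by omega) hc

theorem allFrom_of_range {f : ℕ → Bool} : ∀ {len a : ℕ}, RangeTest f a (a + len) → allFrom f a len = true := by
  intro len
  induction len with
  | zero => intro a _; rfl
  | succ len ih =>
    intro a h
    show (f a && allFrom f (a + 1) len) = true
    rw [h a le_rfl (by omega), ih fun i h1 h2 => h i (by omega) (by omega)]
    rfl

variable (A : Act)

/-- All the tests of a level but the rows. -/
noncomputable def Act.headOK (L : Level) (earlier : List ℕ) : Bool :=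
  A.fixesOK L earlier && Nat.blt L.base A.n && Nat.blt 0 L.size

theorem Act.levelOK_of_range {L : Level} {earlier : List ℕ} {m : ℕ} (h : A.headOK L earlier = true)
    (hm : L.size = m) (hr : RangeTest (A.rowOK L) 0 m) : A.levelOK L earlier = true := by
  subst hm
  simp only [Act.headOK, Bool.and_eq_true] at h
  simp only [Act.levelOK, Bool.and_eq_true]
  exact ⟨h, allFrom_of_range fun i h1 h2 => hr i h1 (by omega)⟩

/-- Closure of an orbit under the letters, at one place. -/
noncomputable def Act.closedAt (L : Level) (i : ℕ) : Bool :=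
  allList (fun s => L.memB (A.T s (L.pt i))) L.gens

theorem Act.orbitOK_of_range {L : Level} {m : ℕ} (h : A.levelOK L [] = true) (hm : L.size = m)
    (hr : RangeTest (A.closedAt L) 0 m) : A.orbitOK L = true := by
  subst hm
  simp only [Act.orbitOK, Bool.and_eq_true]
  exact ⟨h, allFrom_of_range (fun i h1 h2 => hr i h1 (by omega))⟩

/-- Membership in one of the levels. -/
noncomputable def coveredBy (Ls : List Level) (c : ℕ) : Bool :=
  List.rec (motive := fun _ => Bool) false (fun L _ ih => L.memB c || ih) Ls

theorem Act.orbitsOK_of_range {Ls : List Level} {gens : List ℕ} {m : ℕ}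
    (hfirst : List.rec (motive := fun _ => Bool) false (fun L _ _ => Nat.beq L.base 0 && Nat.beq L.size 1) Ls = true)
    (heach : ∀ L ∈ Ls, beqWord L.gens gens = true ∧ A.orbitOK L = true) (hn : A.n = m)
    (hcover : RangeTest (coveredBy Ls) 0 m)
    (hsum : Nat.beq (List.rec (motive := fun _ => ℕ) 0 (fun L _ ih => Nat.add L.size ih) Ls) A.n = true) :
    A.orbitsOK Ls gens = true := by
  subst hn
  simp only [Act.orbitsOK, Bool.and_eq_true]
  refine ⟨⟨⟨hfirst, ?_⟩, allFrom_of_range fun i h1 h2 => hcover i h1 (by omega)⟩, hsum⟩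
  clear hfirst hcover hsum
  induction Ls with
  | nil => rfl
  | cons L Ls ih =>
    simp only [Bool.and_eq_true]
    exact ⟨heach L List.mem_cons_self, ih fun L' h' => heach L' (List.mem_cons_of_mem _ h')⟩

end CfsgLib.Spor.TC
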